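import Mathlib
import Groth.Agent.Lib.Helper6.DCLoc.Cov
import Groth.Agent.Lib.Helper3.Bous3

/-!
# `RHom(O_f, K) = 0` iff `T(K, f) = 0`: the formal part (helper6)

In a pretriangulated category `𝒟` with a central family of endomorphisms `σ X : X ⟶ X`, let
`F ⊣ G` be an adjunction such that every `F X` is the cone of the telescope `1 - σ·shift` on a
countable coproduct of copies of `X`, and such that `F` commutes with shifts on objects.  Then
`G K = 0` iff every cone of `1 - σ·shift` on the countable product of copies of `K` vanishes.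
-/

set_option autoImplicit false
set_option linter.unusedSectionVars false
set_option linter.unusedVariables false
set_option linter.style.haveILetI false
universe v u
open CategoryTheory CategoryTheory.Limits CategoryTheory.Pretriangulated

namespace Groth.Agent.Lib.Helper6.DCAway

open Groth.Agent.Lib.Helper6.DCPush Groth.Agent.Lib.Helper6.DCLoc

variable {𝒟 : Type u} [Category.{v} 𝒟] [HasZeroObject 𝒟] [HasShift 𝒟 ℤ] [Preadditive 𝒟]
  [∀ n : ℤ, (shiftFunctor 𝒟 n).Additive] [Pretriangulated 𝒟]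

theorem isZero_iff_of_telescope (σ : ∀ X : 𝒟, X ⟶ X)
    (hσ : ∀ (X Y : 𝒟) (m : ℤ) (x : X⟦m⟧ ⟶ Y), (σ X)⟦m⟧' ≫ x = x ≫ σ Y)
    {F G : 𝒟 ⥤ 𝒟} (adj : F ⊣ G)
    (H : ∀ X : 𝒟, ∃ (Y Xc E : 𝒟) (ι : ℕ → (Y ⟶ Xc)) (_ : Nonempty (IsColimit (Cofan.mk Xc ι)))
      (a : Xc ⟶ Xc) (b : Xc ⟶ E) (c : E ⟶ Xc⟦(1 : ℤ)⟧),
      (∀ i, ι i ≫ a = ι i - σ Y ≫ ι (i + 1)) ∧ Triangle.mk a b c ∈ distTriang 𝒟 ∧
        Nonempty (Y ≅ X) ∧ Nonempty (E ≅ F.obj X))
    (S : ∀ (X : 𝒟) (k : ℤ), ∃ X' : 𝒟, Nonempty ((F.obj X)⟦k⟧ ≅ F.obj X'))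
    (K : 𝒟) [HasProduct fun _ : ℕ => K] :
    IsZero (G.obj K) ↔ ∀ L : 𝒟,
      (∃ (a : L ⟶ ∏ᶜ fun _ : ℕ => K) (c : (∏ᶜ fun _ : ℕ => K) ⟶ L⟦(1 : ℤ)⟧),
        Triangle.mk a (Pi.lift fun n => Pi.π (fun _ : ℕ => K) n -
          Pi.π (fun _ : ℕ => K) (n + 1) ≫ σ K) c ∈ distTriang 𝒟) → IsZero L := by
  let P : 𝒟 := ∏ᶜ fun _ : ℕ => K
  let π : ℕ → (P ⟶ K) := fun n => Pi.π (fun _ : ℕ => K) n
  have hP : IsLimit (Fan.mk P π) := productIsProduct (fun _ : ℕ => K)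
  let δ : P ⟶ P := Pi.lift fun n => π n - π (n + 1) ≫ σ K
  have hδ : ∀ i, δ ≫ π i = π i - π (i + 1) ≫ σ K := fun i =>
    Pi.lift_π (fun n => π n - π (n + 1) ≫ σ K) i
  obtain ⟨Z, g, h', hT⟩ := distinguished_cocone_triangle δ
  have key : ∀ X : 𝒟, (∀ n : ℤ, Subsingleton (F.obj X ⟶ K⟦n⟧)) ↔
      (∀ m : ℤ, Subsingleton (X⟦m⟧ ⟶ Z)) := by
    intro X
    obtain ⟨Y, Xc, E, ι, ⟨hC⟩, a, b, c, ha, habc, ⟨eY⟩, ⟨eE⟩⟩ := H X
    have h1 : (∀ m : ℤ, Bij (a⟦m⟧') K) ↔ (∀ m : ℤ, Subsingleton (Y⟦m⟧ ⟶ Z)) :=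
      bij_iff_subsingleton ι hC (σ Y) a ha π hP (σ K) δ hδ (fun m x => hσ Y K m x) g h' hT
    have h2 : (∀ m : ℤ, Bij (a⟦m⟧') K) ↔ (∀ n : ℤ, Bij a (K⟦n⟧)) := by
      constructor
      · intro h n
        exact (bij_adj (shiftEquiv 𝒟 n).symm.toAdjunction a K).2 (h (-n))
      · intro h m
        exact (bij_adj (shiftEquiv 𝒟 m).toAdjunction a K).1 (h (-m))
    have h3 : (∀ n : ℤ, Bij a (K⟦n⟧)) ↔ (∀ n : ℤ, Subsingleton (E ⟶ K⟦n⟧)) := by
      constructor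
      · intro h n
        exact subsingleton_of_bij (Triangle.mk a b c) habc K h n
      · intro h n
        exact bij_of_subsingleton (Triangle.mk a b c) habc K h n
    have h4 : (∀ n : ℤ, Subsingleton (E ⟶ K⟦n⟧)) ↔
        (∀ n : ℤ, Subsingleton (F.obj X ⟶ K⟦n⟧)) := by
      constructor
      · intro h n
        exact subsingleton_of_iso_source eE (h n)
      · intro h n
        exact subsingleton_of_iso_source eE.symm (h n)
    have h5 : (∀ m : ℤ, Subsingleton (Y⟦m⟧ ⟶ Z)) ↔ (∀ m : ℤ, Subsingleton (X⟦m⟧ ⟶ Z)) := by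
      constructor
      · intro h m
        exact subsingleton_of_iso_source ((shiftFunctor 𝒟 m).mapIso eY) (h m)
      · intro h m
        exact subsingleton_of_iso_source ((shiftFunctor 𝒟 m).mapIso eY.symm) (h m)
    exact h4.symm.trans (h3.symm.trans (h2.symm.trans (h1.trans h5)))
  have c2 : IsZero (G.obj K) ↔ IsZero Z := by
    constructor
    · intro hG
      have h0 : ∀ X : 𝒟, Subsingleton (F.obj X ⟶ K) := fun X =>
        (adj.homEquiv X K).subsingleton_congr.2 ⟨fun x y => hG.eq_of_tgt x y⟩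
      have h1 : ∀ n : ℤ, Subsingleton (F.obj Z ⟶ K⟦n⟧) := by
        intro n
        obtain ⟨X', ⟨e⟩⟩ := S Z (-n)
        refine (Groth.Agent.Helper3.Bous3.subsingleton_shift_hom_iff' (F.obj Z) K n).1 ?_
        exact subsingleton_of_iso_source e.symm (h0 X')
      have h2 := (key Z).1 h1 0
      have h3 : Subsingleton (Z ⟶ Z) :=
        subsingleton_of_iso_source ((shiftFunctorZero 𝒟 ℤ).app Z) h2
      rw [IsZero.iff_id_eq_zero]
      exact h3.elim _ _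
    · intro hZ
      have h1 : ∀ X : 𝒟, Subsingleton (F.obj X ⟶ K) := by
        intro X
        have h2 := (key X).2 (fun m => ⟨fun x y => hZ.eq_of_tgt x y⟩) 0
        exact subsingleton_of_iso_target ((shiftFunctorZero 𝒟 ℤ).app K) h2
      have h3 : Subsingleton (G.obj K ⟶ G.obj K) :=
        (adj.homEquiv (G.obj K) K).subsingleton_congr.1 (h1 _)
      rw [IsZero.iff_id_eq_zero]
      exact h3.elim _ _
  have c1 : (∀ L : 𝒟, (∃ (a : L ⟶ P) (c : P ⟶ L⟦(1 : ℤ)⟧),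
      Triangle.mk a δ c ∈ distTriang 𝒟) → IsZero L) ↔ IsZero Z := by
    constructor
    · intro h
      have hinv := inv_rot_of_distTriang _ hT
      have h1 : IsZero (Triangle.mk δ g h').invRotate.obj₁ :=
        h _ ⟨(Triangle.mk δ g h').invRotate.mor₁, (Triangle.mk δ g h').invRotate.mor₃, hinv⟩
      have h2 : IsIso δ := (Triangle.isZero₁_iff_isIso₂ _ hinv).1 h1
      exact (Triangle.isZero₃_iff_isIso₁ _ hT).2 h2
    · rintro hZ L ⟨a, c, hL⟩
      have h2 : IsIso δ := (Triangle.isZero₃_iff_isIso₁ _ hT).1 hZ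
      exact (Triangle.isZero₁_iff_isIso₂ _ hL).2 h2
  exact c2.trans c1.symm

end Groth.Agent.Lib.Helper6.DCAway
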