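import Mathlib
import Groth.Agent.Lib.Helper6.DCLoc.Cov

/-!
# `RHom(O_f, K)` is `T(K, f)`: the formal part (helper6)

In a pretriangulated category with a central family of endomorphisms `σ X : X ⟶ X` (compatible
with shifts), call `X` *local* when `σ X` is invertible.  Let `F ⊣ G`, `j : 𝟭 ⟶ F`, such that every
`F X` is the cone of the telescope `1 - σ·shift` on a countable coproduct of copies of `X`, with
`j` the inclusion of the first summand, and such that `F (σ X)` is invertible.  Then both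
`G K ⟶ K` and `T(K) ⟶ K` (the fibre of `1 - σ·shift` on the countable product) are coreflections
of `K` into the local objects, so `G K` is a value of `T(K)` (`isT_of_coreflection`).
-/

set_option autoImplicit false
set_option linter.unusedSectionVars false
set_option linter.unusedVariables false
set_option linter.style.haveILetI false
universe v u
open CategoryTheory CategoryTheory.Limits CategoryTheory.Pretriangulated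

namespace Groth.Agent.Lib.Helper6.DCAway

open Groth.Agent.Lib.Helper6.DCPush Groth.Agent.Lib.Helper6.DCLoc

section PA

variable {𝒟 : Type u} [Category.{v} 𝒟] [Preadditive 𝒟] {N K : 𝒟}

lemma psi_surjective (τ : N ⟶ N) [IsIso τ] (y : ℕ → (N ⟶ K)) :
    ∃ x : ℕ → (N ⟶ K), Psi τ x = y := by
  let x : ℕ → (N ⟶ K) := fun i =>
    Nat.rec (motive := fun _ => N ⟶ K) 0 (fun i xi => inv τ ≫ (xi - y i)) i
  refine ⟨x, funext fun i => ?_⟩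
  show x i - τ ≫ x (i + 1) = y i
  have h : x (i + 1) = inv τ ≫ (x i - y i) := rfl
  rw [h, IsIso.hom_inv_id_assoc, sub_sub_cancel]

lemma psi_eq_zero (τ : N ⟶ N) [IsIso τ] (x : ℕ → (N ⟶ K)) (h : Psi τ x = 0) (h0 : x 0 = 0) :
    x = 0 := by
  funext i
  show x i = 0
  induction i with
  | zero => exact h0
  | succ i ih =>
    have h1 : x i - τ ≫ x (i + 1) = 0 := congrFun h i
    rw [ih, zero_sub, neg_eq_zero] at h1
    have h2 : inv τ ≫ τ ≫ x (i + 1) = 0 := by rw [h1, comp_zero]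
    rw [IsIso.inv_hom_id_assoc] at h2
    exact h2

lemma psi_exists (τ : N ⟶ N) [IsIso τ] (v : N ⟶ K) :
    ∃ x : ℕ → (N ⟶ K), Psi τ x = 0 ∧ x 0 = v := by
  let x : ℕ → (N ⟶ K) := fun i =>
    Nat.rec (motive := fun _ => N ⟶ K) v (fun i xi => inv τ ≫ xi) i
  refine ⟨x, funext fun i => ?_, rfl⟩
  show x i - τ ≫ x (i + 1) = 0
  have h : x (i + 1) = inv τ ≫ x i := rfl
  rw [h, IsIso.hom_inv_id_assoc, sub_self]

end PA

section FSide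

variable {𝒟 : Type u} [Category.{v} 𝒟] [Preadditive 𝒟] {N Xc K : 𝒟} (ι : ℕ → (N ⟶ Xc))
  (hC : IsColimit (Cofan.mk Xc ι)) (τ : N ⟶ N) (a : Xc ⟶ Xc)
  (ha : ∀ i, ι i ≫ a = ι i - τ ≫ ι (i + 1))

include ha in
lemma psi_of_comp (φ : Xc ⟶ K) :
    (fun i => ι i ≫ a ≫ φ) = Psi τ (fun i => ι i ≫ φ) := by
  funext i
  show ι i ≫ a ≫ φ = ι i ≫ φ - τ ≫ ι (i + 1) ≫ φ
  rw [← Category.assoc, ha, Preadditive.sub_comp, Category.assoc]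

include hC ha in
lemma tel_surj [IsIso τ] (φ : Xc ⟶ K) : ∃ φ' : Xc ⟶ K, a ≫ φ' = φ := by
  obtain ⟨x, hx⟩ := psi_surjective τ (fun i => ι i ≫ φ)
  refine ⟨Cofan.IsColimit.desc hC x, ?_⟩
  refine Cofan.IsColimit.hom_ext hC _ _ (fun i => ?_)
  have h1 := congrFun (psi_of_comp ι τ a ha (Cofan.IsColimit.desc hC x)) i
  have h2 : (fun i => ι i ≫ Cofan.IsColimit.desc hC x) = x :=
    funext fun i => Cofan.IsColimit.fac hC x i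
  rw [h2, hx] at h1
  exact h1

include hC ha in
lemma tel_eq_zero [IsIso τ] (φ : Xc ⟶ K) (h : a ≫ φ = 0) (h0 : ι 0 ≫ φ = 0) : φ = 0 := by
  have h1 : Psi τ (fun i => ι i ≫ φ) = 0 := by
    rw [← psi_of_comp ι τ a ha φ]
    funext i
    show ι i ≫ a ≫ φ = 0
    rw [h, comp_zero]
  have h2 := psi_eq_zero τ _ h1 h0
  refine Cofan.IsColimit.hom_ext hC _ _ (fun i => ?_)
  show ι i ≫ φ = ι i ≫ 0
  rw [comp_zero]
  exact congrFun h2 i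

include hC ha in
lemma tel_exists [IsIso τ] (k : N ⟶ K) : ∃ φ : Xc ⟶ K, a ≫ φ = 0 ∧ ι 0 ≫ φ = k := by
  obtain ⟨x, hx, hx0⟩ := psi_exists τ k
  refine ⟨Cofan.IsColimit.desc hC x, ?_, ?_⟩
  · refine Cofan.IsColimit.hom_ext hC _ _ (fun i => ?_)
    have h1 := congrFun (psi_of_comp ι τ a ha (Cofan.IsColimit.desc hC x)) i
    have h2 : (fun i => ι i ≫ Cofan.IsColimit.desc hC x) = x :=
      funext fun i => Cofan.IsColimit.fac hC x i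
    rw [h2, hx] at h1
    show ι i ≫ a ≫ _ = ι i ≫ 0
    rw [comp_zero]
    exact h1
  · exact (Cofan.IsColimit.fac hC x 0).trans hx0

end FSide

section KSide

variable {𝒟 : Type u} [Category.{v} 𝒟] [Preadditive 𝒟] {N P K : 𝒟} (π : ℕ → (P ⟶ K))
  (hP : IsLimit (Fan.mk P π)) (σK : K ⟶ K) (δ : P ⟶ P)
  (hδ : ∀ i, δ ≫ π i = π i - π (i + 1) ≫ σK) (τ : N ⟶ N)
  (hτ : ∀ x : N ⟶ K, τ ≫ x = x ≫ σK)

include hδ hτ in
lemma psi_of_comp' (ψ : N ⟶ P) :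
    (fun i => (ψ ≫ δ) ≫ π i) = Psi τ (fun i => ψ ≫ π i) := by
  funext i
  show (ψ ≫ δ) ≫ π i = ψ ≫ π i - τ ≫ ψ ≫ π (i + 1)
  rw [Category.assoc, hδ, Preadditive.comp_sub, hτ, Category.assoc]

include hP hδ hτ in
lemma tow_surj [IsIso τ] (y : N ⟶ P) : ∃ x : N ⟶ P, x ≫ δ = y := by
  obtain ⟨x, hx⟩ := psi_surjective τ (fun i => y ≫ π i)
  refine ⟨Fan.IsLimit.lift hP x, ?_⟩
  refine Fan.IsLimit.hom_ext hP _ _ (fun i => ?_)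
  have h1 := congrFun (psi_of_comp' π σK δ hδ τ hτ (Fan.IsLimit.lift hP x)) i
  have h2 : (fun i => Fan.IsLimit.lift hP x ≫ π i) = x :=
    funext fun i => Fan.IsLimit.fac hP x i
  rw [h2, hx] at h1
  exact h1

include hP hδ hτ in
lemma tow_eq_zero [IsIso τ] (y : N ⟶ P) (h : y ≫ δ = 0) (h0 : y ≫ π 0 = 0) : y = 0 := by
  have h1 : Psi τ (fun i => y ≫ π i) = 0 := by
    rw [← psi_of_comp' π σK δ hδ τ hτ y]
    funext i
    show (y ≫ δ) ≫ π i = 0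
    rw [h, zero_comp]
  have h2 := psi_eq_zero τ _ h1 h0
  refine Fan.IsLimit.hom_ext hP _ _ (fun i => ?_)
  show y ≫ π i = 0 ≫ π i
  rw [zero_comp]
  exact congrFun h2 i

include hP hδ hτ in
lemma tow_exists [IsIso τ] (k : N ⟶ K) : ∃ y : N ⟶ P, y ≫ δ = 0 ∧ y ≫ π 0 = k := by
  obtain ⟨x, hx, hx0⟩ := psi_exists τ k
  refine ⟨Fan.IsLimit.lift hP x, ?_, ?_⟩
  · refine Fan.IsLimit.hom_ext hP _ _ (fun i => ?_)
    have h1 := congrFun (psi_of_comp' π σK δ hδ τ hτ (Fan.IsLimit.lift hP x)) i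
    have h2 : (fun i => Fan.IsLimit.lift hP x ≫ π i) = x :=
      funext fun i => Fan.IsLimit.fac hP x i
    rw [h2, hx] at h1
    show (_ ≫ δ) ≫ π i = 0 ≫ π i
    rw [zero_comp]
    exact h1
  · exact (Fan.IsLimit.fac hP x 0).trans hx0

end KSide

section Main

variable {𝒟 : Type u} [Category.{v} 𝒟] [HasZeroObject 𝒟] [HasShift 𝒟 ℤ] [Preadditive 𝒟]
  [∀ n : ℤ, (shiftFunctor 𝒟 n).Additive] [Pretriangulated 𝒟]

/-- telescope side: if `τ` is invertible on `Y`, maps out of the cone of the telescope are maps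
out of `Y` (via the first summand) -/
theorem bij_of_local_tel {Y Xc E K : 𝒟} (ι : ℕ → (Y ⟶ Xc)) (hC : IsColimit (Cofan.mk Xc ι))
    (τ : Y ⟶ Y) [IsIso τ] (a : Xc ⟶ Xc) (ha : ∀ i, ι i ≫ a = ι i - τ ≫ ι (i + 1))
    (b : Xc ⟶ E) (c : E ⟶ Xc⟦(1 : ℤ)⟧) (hT : Triangle.mk a b c ∈ distTriang 𝒟) :
    Function.Bijective (fun h : E ⟶ K => (ι 0 ≫ b) ≫ h) := by
  have hab : a ≫ b = 0 := comp_distTriang_mor_zero₁₂ _ hT
  have hca : c ≫ a⟦(1 : ℤ)⟧' = 0 := comp_distTriang_mor_zero₃₁ _ hT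
  constructor
  · intro h₁ h₂ h12
    have h12' : (ι 0 ≫ b) ≫ h₁ = (ι 0 ≫ b) ≫ h₂ := h12
    have hd : ι 0 ≫ b ≫ (h₁ - h₂) = 0 := by
      rw [← Category.assoc, Preadditive.comp_sub, h12', sub_self]
    have h1 : a ≫ (b ≫ (h₁ - h₂)) = 0 := by
      rw [← Category.assoc, hab, zero_comp]
    have h2 : b ≫ (h₁ - h₂) = 0 := tel_eq_zero ι hC τ a ha _ h1 hd
    have hex : ∃ w : Xc⟦(1 : ℤ)⟧ ⟶ K, h₁ - h₂ = c ≫ w :=
      (Triangle.mk a b c).yoneda_exact₃ hT (h₁ - h₂) h2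
    obtain ⟨w, hw⟩ := hex
    have hC1 : IsColimit (Cofan.mk (Xc⟦(1 : ℤ)⟧) (fun j => (ι j)⟦(1 : ℤ)⟧')) :=
      isColimitCofanMkObjOfIsColimit (shiftFunctor 𝒟 (1 : ℤ)) _ _ hC
    have ha1 : ∀ i, (ι i)⟦(1 : ℤ)⟧' ≫ a⟦(1 : ℤ)⟧' =
        (ι i)⟦(1 : ℤ)⟧' - τ⟦(1 : ℤ)⟧' ≫ (ι (i + 1))⟦(1 : ℤ)⟧' := by
      intro i
      rw [← Functor.map_comp, ha, Functor.map_sub, Functor.map_comp]
    obtain ⟨w', hw'⟩ := tel_surj (fun j => (ι j)⟦(1 : ℤ)⟧') hC1 (τ⟦(1 : ℤ)⟧') (a⟦(1 : ℤ)⟧') ha1 w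
    have h4 : h₁ - h₂ = 0 := by
      rw [hw, ← hw', ← Category.assoc, hca, zero_comp]
    exact sub_eq_zero.1 h4
  · intro k
    obtain ⟨φ, hφ, hφ0⟩ := tel_exists ι hC τ a ha k
    have hex : ∃ h : E ⟶ K, φ = b ≫ h := (Triangle.mk a b c).yoneda_exact₂ hT φ hφ
    obtain ⟨h, hh'⟩ := hex
    refine ⟨h, ?_⟩
    show (ι 0 ≫ b) ≫ h = k
    rw [Category.assoc, ← hh', hφ0]

/-- tower side: if `τ` is invertible on `M`, maps into the fibre of the tower are maps into `K`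
(via the first projection) -/
theorem bij_of_local_tow {M Z' P K : 𝒟} (π : ℕ → (P ⟶ K)) (hP : IsLimit (Fan.mk P π))
    (σK : K ⟶ K) (δ : P ⟶ P) (hδ : ∀ i, δ ≫ π i = π i - π (i + 1) ≫ σK)
    (a₀ : Z' ⟶ P) (c₀ : P ⟶ Z'⟦(1 : ℤ)⟧) (hT' : Triangle.mk a₀ δ c₀ ∈ distTriang 𝒟)
    (τ : M ⟶ M) [IsIso τ] (hτ : ∀ x : M ⟶ K, τ ≫ x = x ≫ σK)
    (hτ1 : ∀ x : M⟦(1 : ℤ)⟧ ⟶ K, τ⟦(1 : ℤ)⟧' ≫ x = x ≫ σK) :
    Function.Bijective (fun g : M ⟶ Z' => g ≫ a₀ ≫ π 0) := by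
  have haδ : a₀ ≫ δ = 0 := comp_distTriang_mor_zero₁₂ _ hT'
  have hδc : δ ≫ c₀ = 0 := comp_distTriang_mor_zero₂₃ _ hT'
  constructor
  · intro g₁ g₂ h12
    have h12' : g₁ ≫ a₀ ≫ π 0 = g₂ ≫ a₀ ≫ π 0 := h12
    have hd0 : ((g₁ - g₂) ≫ a₀) ≫ π 0 = 0 := by
      rw [Category.assoc, Preadditive.sub_comp, h12', sub_self]
    have hdδ : ((g₁ - g₂) ≫ a₀) ≫ δ = 0 := by
      rw [Category.assoc, haδ, comp_zero]
    have h1 : (g₁ - g₂) ≫ a₀ = 0 := tow_eq_zero π hP σK δ hδ τ hτ _ hdδ hd0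
    have h2 : (g₁ - g₂)⟦(1 : ℤ)⟧' ≫ a₀⟦(1 : ℤ)⟧' = 0 := by
      rw [← Functor.map_comp, h1, Functor.map_zero]
    have hex : ∃ y : M⟦(1 : ℤ)⟧ ⟶ P, (g₁ - g₂)⟦(1 : ℤ)⟧' = y ≫ c₀ :=
      (Triangle.mk a₀ δ c₀).coyoneda_exact₁ hT' ((g₁ - g₂)⟦(1 : ℤ)⟧') h2
    obtain ⟨y, hy'⟩ := hex
    obtain ⟨x, hx⟩ := tow_surj π hP σK δ hδ (τ⟦(1 : ℤ)⟧') hτ1 y
    have h4 : (g₁ - g₂)⟦(1 : ℤ)⟧' = 0 := by
      rw [hy', ← hx, Category.assoc, hδc, comp_zero]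
    have h5 : g₁ - g₂ = 0 :=
      (shiftFunctor 𝒟 (1 : ℤ)).map_injective (by rw [h4, Functor.map_zero])
    exact sub_eq_zero.1 h5
  · intro k
    obtain ⟨y, hy, hy0⟩ := tow_exists π hP σK δ hδ τ hτ k
    have hex : ∃ g : M ⟶ Z', y = g ≫ a₀ := (Triangle.mk a₀ δ c₀).coyoneda_exact₂ hT' y hy
    obtain ⟨g, hg'⟩ := hex
    refine ⟨g, ?_⟩
    show g ≫ a₀ ≫ π 0 = k
    rw [← Category.assoc, ← hg', hy0]

/-- the fibre of the tower is local -/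
theorem isIso_sigma_fibre (σ : ∀ X : 𝒟, X ⟶ X)
    (hσn : ∀ {X Y : 𝒟} (f : X ⟶ Y), σ X ≫ f = f ≫ σ Y)
    (hσs : ∀ (X : 𝒟) (m : ℤ), (σ X)⟦m⟧' = σ (X⟦m⟧))
    {Z' P K : 𝒟} (π : ℕ → (P ⟶ K)) (hP : IsLimit (Fan.mk P π))
    (δ : P ⟶ P) (hδ : ∀ i, δ ≫ π i = π i - π (i + 1) ≫ σ K)
    (a₀ : Z' ⟶ P) (c₀ : P ⟶ Z'⟦(1 : ℤ)⟧) (hT' : Triangle.mk a₀ δ c₀ ∈ distTriang 𝒟) :
    IsIso (σ Z') := by
  have haδ : a₀ ≫ δ = 0 := comp_distTriang_mor_zero₁₂ _ hT'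
  have hδc : δ ≫ c₀ = 0 := comp_distTriang_mor_zero₂₃ _ hT'
  let sh : P ⟶ P := Fan.IsLimit.lift hP (fun i => π (i + 1))
  have hsh : ∀ i, sh ≫ π i = π (i + 1) := fun i => Fan.IsLimit.fac hP (fun i => π (i + 1)) i
  have hδsh : 𝟙 P - σ P ≫ sh = δ := by
    refine Fan.IsLimit.hom_ext hP _ _ (fun i => ?_)
    show (𝟙 P - σ P ≫ sh) ≫ π i = δ ≫ π i
    rw [hδ, Preadditive.sub_comp, Category.id_comp, Category.assoc, hsh, hσn]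
  have hcomm : δ ≫ sh = sh ≫ δ := by
    rw [← hδsh, Preadditive.sub_comp, Preadditive.comp_sub, Category.id_comp, Category.comp_id,
      Category.assoc, ← Category.assoc sh, ← hσn sh, Category.assoc]
  have hex : ∃ φ : Z' ⟶ Z', a₀ ≫ sh = φ ≫ a₀ ∧ c₀ ≫ φ⟦(1 : ℤ)⟧' = sh ≫ c₀ :=
    complete_distinguished_triangle_morphism₁ (Triangle.mk a₀ δ c₀)
      (Triangle.mk a₀ δ c₀) hT' hT' sh sh hcomm
  obtain ⟨φ, hφ1', hφ3'⟩ := hex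
  let ψ : Z' ⟶ Z' := 𝟙 Z' - σ Z' ≫ φ
  have hψa : ψ ≫ a₀ = 0 := by
    have h1 : ψ ≫ a₀ = a₀ ≫ (𝟙 P - σ P ≫ sh) := by
      show (𝟙 Z' - σ Z' ≫ φ) ≫ a₀ = a₀ ≫ (𝟙 P - σ P ≫ sh)
      rw [Preadditive.sub_comp, Preadditive.comp_sub, Category.id_comp, Category.comp_id,
        Category.assoc, ← hφ1', ← Category.assoc, hσn a₀, Category.assoc]
    rw [h1, hδsh, haδ]
  have hcψ : c₀ ≫ ψ⟦(1 : ℤ)⟧' = 0 := by
    have h1 : c₀ ≫ ψ⟦(1 : ℤ)⟧' = (𝟙 P - σ P ≫ sh) ≫ c₀ := by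
      show c₀ ≫ (𝟙 Z' - σ Z' ≫ φ)⟦(1 : ℤ)⟧' = (𝟙 P - σ P ≫ sh) ≫ c₀
      rw [Functor.map_sub, CategoryTheory.Functor.map_id, Functor.map_comp, hσs,
        Preadditive.comp_sub, Preadditive.sub_comp, Category.comp_id, Category.id_comp,
        ← Category.assoc, ← hσn c₀, Category.assoc, hφ3', Category.assoc]
    rw [h1, hδsh, hδc]
  have hψψ : ψ ≫ ψ = 0 := by
    have h2 : ψ⟦(1 : ℤ)⟧' ≫ a₀⟦(1 : ℤ)⟧' = 0 := by
      rw [← Functor.map_comp, hψa, Functor.map_zero]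
    have hex : ∃ y : Z'⟦(1 : ℤ)⟧ ⟶ P, ψ⟦(1 : ℤ)⟧' = y ≫ c₀ :=
      (Triangle.mk a₀ δ c₀).coyoneda_exact₁ hT' (ψ⟦(1 : ℤ)⟧') h2
    obtain ⟨y, hy'⟩ := hex
    apply (shiftFunctor 𝒟 (1 : ℤ)).map_injective
    rw [Functor.map_comp, Functor.map_zero]
    nth_rewrite 1 [hy']
    rw [Category.assoc, hcψ, comp_zero]
  have hσφ : σ Z' ≫ φ = 𝟙 Z' - ψ := by
    show σ Z' ≫ φ = 𝟙 Z' - (𝟙 Z' - σ Z' ≫ φ)
    rw [sub_sub_cancel]
  let R : Z' ⟶ Z' := φ ≫ (𝟙 Z' + ψ)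
  have h1 : σ Z' ≫ R = 𝟙 Z' := by
    show σ Z' ≫ φ ≫ (𝟙 Z' + ψ) = 𝟙 Z'
    rw [← Category.assoc, hσφ]
    simp only [Preadditive.sub_comp, Preadditive.comp_add, Category.id_comp, Category.comp_id,
      hψψ]
    abel
  have h2 : R ≫ σ Z' = 𝟙 Z' := by
    rw [← hσn R]
    exact h1
  exact ⟨⟨R, h1, h2⟩⟩

/-- **the formal theorem** -/
theorem isT_of_coreflection (σ : ∀ X : 𝒟, X ⟶ X)
    (hσn : ∀ {X Y : 𝒟} (f : X ⟶ Y), σ X ≫ f = f ≫ σ Y)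
    (hσs : ∀ (X : 𝒟) (m : ℤ), (σ X)⟦m⟧' = σ (X⟦m⟧))
    {F G : 𝒟 ⥤ 𝒟} (adj : F ⊣ G) (j : 𝟭 𝒟 ⟶ F)
    (H : ∀ X : 𝒟, ∃ (Y Xc E : 𝒟) (ι : ℕ → (Y ⟶ Xc)) (_ : Nonempty (IsColimit (Cofan.mk Xc ι)))
      (a : Xc ⟶ Xc) (b : Xc ⟶ E) (c : E ⟶ Xc⟦(1 : ℤ)⟧),
      (∀ i, ι i ≫ a = ι i - σ Y ≫ ι (i + 1)) ∧ Triangle.mk a b c ∈ distTriang 𝒟 ∧
        ∃ (eY : Y ≅ X) (eE : E ≅ F.obj X), eY.inv ≫ ι 0 ≫ b ≫ eE.hom = j.app X)
    (hF : ∀ W : 𝒟, IsIso (F.map (σ W)))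
    (K : 𝒟) [HasProduct fun _ : ℕ => K] :
    ∃ (a : G.obj K ⟶ ∏ᶜ fun _ : ℕ => K) (c : (∏ᶜ fun _ : ℕ => K) ⟶ (G.obj K)⟦(1 : ℤ)⟧),
      Triangle.mk a (Pi.lift fun n => Pi.π (fun _ : ℕ => K) n -
        Pi.π (fun _ : ℕ => K) (n + 1) ≫ σ K) c ∈ distTriang 𝒟 := by
  let P : 𝒟 := ∏ᶜ fun _ : ℕ => K
  let π : ℕ → (P ⟶ K) := fun n => Pi.π (fun _ : ℕ => K) n
  have hP : IsLimit (Fan.mk P π) := productIsProduct (fun _ : ℕ => K)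
  let δ : P ⟶ P := Pi.lift fun n => π n - π (n + 1) ≫ σ K
  have hδ : ∀ i, δ ≫ π i = π i - π (i + 1) ≫ σ K := fun i =>
    Pi.lift_π (fun n => π n - π (n + 1) ≫ σ K) i
  obtain ⟨Z', a₀, c₀, hT'⟩ := distinguished_cocone_triangle₁ δ
  let q : Z' ⟶ K := a₀ ≫ π 0
  -- the tower side
  have hq : ∀ M : 𝒟, IsIso (σ M) → Function.Bijective (fun g : M ⟶ Z' => g ≫ q) := by
    intro M hM
    haveI := hM
    exact bij_of_local_tow π hP (σ K) δ hδ a₀ c₀ hT' (σ M) (fun x => hσn x)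
      (fun x => by rw [hσs]; exact hσn x)
  have hZ' : IsIso (σ Z') := isIso_sigma_fibre σ hσn hσs π hP δ hδ a₀ c₀ hT'
  -- the telescope side
  have step4 : ∀ M : 𝒟, IsIso (σ M) →
      Function.Bijective (fun h : F.obj M ⟶ K => j.app M ≫ h) := by
    intro M hM
    haveI := hM
    obtain ⟨Y, Xc, E, ι, ⟨hC⟩, a, b, c, ha, habc, eY, eE, hj⟩ := H M
    have hY1 : σ Y = eY.hom ≫ σ M ≫ eY.inv := by
      rw [← Category.assoc, ← hσn eY.hom, Category.assoc, Iso.hom_inv_id, Category.comp_id]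
    haveI : IsIso (σ Y) := by
      rw [hY1]
      infer_instance
    have hb := bij_of_local_tel (K := K) ι hC (σ Y) a ha b c habc
    have hj' : ∀ h : F.obj M ⟶ K, j.app M ≫ h = eY.inv ≫ (ι 0 ≫ b) ≫ eE.hom ≫ h := by
      intro h
      rw [← hj]
      simp only [Category.assoc]
    constructor
    · intro h₁ h₂ h12
      have h12' : j.app M ≫ h₁ = j.app M ≫ h₂ := h12
      rw [hj', hj'] at h12'
      have h3 : (ι 0 ≫ b) ≫ eE.hom ≫ h₁ = (ι 0 ≫ b) ≫ eE.hom ≫ h₂ :=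
        (cancel_epi eY.inv).1 h12'
      exact (cancel_epi eE.hom).1 (hb.1 h3)
    · intro k
      obtain ⟨h, hh⟩ := hb.2 (eY.hom ≫ k)
      have hh' : (ι 0 ≫ b) ≫ h = eY.hom ≫ k := hh
      refine ⟨eE.inv ≫ h, ?_⟩
      show j.app M ≫ eE.inv ≫ h = k
      rw [hj', Iso.hom_inv_id_assoc, hh', Iso.inv_hom_id_assoc]
  -- `G K` is local
  have hGK : IsIso (σ (G.obj K)) := by
    haveI := hF (G.obj K)
    let θ := adj.homEquiv (G.obj K) K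
    let r : G.obj K ⟶ G.obj K := θ (inv (F.map (σ (G.obj K))) ≫ θ.symm (𝟙 _))
    have h1 : σ (G.obj K) ≫ r = 𝟙 _ := by
      apply θ.symm.injective
      rw [adj.homEquiv_naturality_left_symm]
      show F.map (σ (G.obj K)) ≫ θ.symm (θ (inv (F.map (σ (G.obj K))) ≫ θ.symm (𝟙 _))) =
        θ.symm (𝟙 _)
      rw [Equiv.symm_apply_apply, IsIso.hom_inv_id_assoc]
    have h2 : r ≫ σ (G.obj K) = 𝟙 _ := by
      rw [← hσn r]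
      exact h1
    exact ⟨⟨r, h1, h2⟩⟩
  -- the coreflection `G K ⟶ K`
  let p : G.obj K ⟶ K := j.app (G.obj K) ≫ adj.counit.app K
  have hp : ∀ M : 𝒟, IsIso (σ M) → Function.Bijective (fun g : M ⟶ G.obj K => g ≫ p) := by
    intro M hM
    have hj := step4 M hM
    have key : ∀ g : M ⟶ G.obj K, g ≫ p = j.app M ≫ (adj.homEquiv M K).symm g := by
      intro g
      have hn : g ≫ j.app (G.obj K) = j.app M ≫ F.map g := j.naturality g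
      show g ≫ j.app (G.obj K) ≫ adj.counit.app K = _
      rw [adj.homEquiv_counit, ← Category.assoc, hn, Category.assoc]
    have h3 : (fun g : M ⟶ G.obj K => g ≫ p) =
        (fun h : F.obj M ⟶ K => j.app M ≫ h) ∘ (adj.homEquiv M K).symm := funext key
    rw [h3]
    exact hj.comp (adj.homEquiv M K).symm.bijective
  -- the isomorphism
  obtain ⟨u, hu⟩ := (hq (G.obj K) hGK).2 p
  obtain ⟨v, hv⟩ := (hp Z' hZ').2 q
  have hu' : u ≫ q = p := hu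
  have hv' : v ≫ p = q := hv
  have huv : u ≫ v = 𝟙 _ := (hp (G.obj K) hGK).1 (by
    show (u ≫ v) ≫ p = 𝟙 _ ≫ p
    rw [Category.assoc, hv', hu', Category.id_comp])
  have hvu : v ≫ u = 𝟙 _ := (hq Z' hZ').1 (by
    show (v ≫ u) ≫ q = 𝟙 _ ≫ q
    rw [Category.assoc, hu', hv', Category.id_comp])
  let e : G.obj K ≅ Z' := ⟨u, v, huv, hvu⟩
  refine ⟨e.hom ≫ a₀, c₀ ≫ e.inv⟦(1 : ℤ)⟧', ?_⟩
  refine isomorphic_distinguished _ hT' _ (Triangle.isoMk _ _ e (Iso.refl _) (Iso.refl _) ?_ ?_ ?_)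
  · show (e.hom ≫ a₀) ≫ 𝟙 _ = e.hom ≫ a₀
    rw [Category.comp_id]
  · show δ ≫ 𝟙 _ = 𝟙 _ ≫ δ
    rw [Category.comp_id, Category.id_comp]
  · show (c₀ ≫ e.inv⟦(1 : ℤ)⟧') ≫ e.hom⟦(1 : ℤ)⟧' = 𝟙 _ ≫ c₀
    rw [Category.assoc, ← Functor.map_comp, Iso.inv_hom_id, CategoryTheory.Functor.map_id,
      Category.comp_id, Category.id_comp]

end Main

end Groth.Agent.Lib.Helper6.DCAway
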