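import Mathlib
import Groth.Prelude.Def_DerComp
import Groth.Agent.Lib.Helper6.DCPush.Tel
import Groth.Agent.Lib.Helper5.KFlatSite2.Res
import Groth.Agent.Lib.Helper5.Misc.KFlatSite
import Groth.Agent.S6146
import Groth.Agent.S6149

/-!
# `O_f` is flat (helper6)

* `seqIsColimit`: `coker (1 - t·shift)` on `∐_ℕ G` is the colimit of `G →t G →t …`.
* `isFlat_locAway_unit`: `O_f` is flat; `isKFlat_single_locAway`: `O_f[0]` is K-flat.
* `shortExact_away`: the short exact sequence `0 → ∐ O → ∐ O → O_f → 0`, and its image under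
  `Tot(X₀ ⊗ (-)[0])`.
-/

set_option backward.isDefEq.respectTransparency.types false
set_option autoImplicit false
set_option linter.unusedSectionVars false
set_option linter.unusedVariables false
set_option linter.style.haveILetI false
universe v u
open CategoryTheory CategoryTheory.Limits

namespace Groth.Agent.Lib.Helper6.DCAway

open Groth.Agent.Lib.Helper6.DCPush

section Seq

variable {𝒜 : Type u} [Category.{v} 𝒜] [Abelian 𝒜] [HasCoproductsOfShape ℕ 𝒜]

/-- the sequence `G →t G →t …` -/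
noncomputable abbrev seqD {G : 𝒜} (t : G ⟶ G) : ℕ ⥤ 𝒜 :=
  Functor.ofSequence (X := fun _ : ℕ => G) (fun _ => t)

lemma ι_cokernel_π {G : 𝒜} (t : G ⟶ G) (n : ℕ) :
    t ≫ Sigma.ι (fun _ : ℕ => G) (n + 1) ≫ cokernel.π (tel t) =
      Sigma.ι (fun _ : ℕ => G) n ≫ cokernel.π (tel t) := by
  have h1 : Sigma.ι (fun _ : ℕ => G) n ≫ tel t ≫ cokernel.π (tel t) = 0 := by
    rw [cokernel.condition, comp_zero]
  rw [ι_tel_assoc, Preadditive.sub_comp, Category.assoc, sub_eq_zero] at h1
  exact h1.symm

/-- the cocone on `coker (tel t)` -/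
noncomputable def seqCocone {G : 𝒜} (t : G ⟶ G) : Cocone (seqD t) where
  pt := cokernel (tel t)
  ι := NatTrans.ofSequence
    (fun n => Sigma.ι (fun _ : ℕ => G) n ≫ cokernel.π (tel t)) (fun n => by
      have h := ι_cokernel_π t n
      show (seqD t).map (homOfLE (n.le_add_right 1)) ≫
          Sigma.ι (fun _ : ℕ => G) (n + 1) ≫ cokernel.π (tel t) =
        (Sigma.ι (fun _ : ℕ => G) n ≫ cokernel.π (tel t)) ≫ 𝟙 _
      rw [Functor.ofSequence_map_homOfLE_succ, Category.comp_id]
      exact h)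

lemma seqCocone_ι_app {G : 𝒜} (t : G ⟶ G) (n : ℕ) :
    (seqCocone t).ι.app n = Sigma.ι (fun _ : ℕ => G) n ≫ cokernel.π (tel t) := rfl

/-- the components of a cocone on `seqD t`, typed as maps from `G` -/
def coconeApp {G : 𝒜} {t : G ⟶ G} (s : Cocone (seqD t)) (n : ℕ) : G ⟶ s.pt := s.ι.app n

lemma coconeApp_w {G : 𝒜} {t : G ⟶ G} (s : Cocone (seqD t)) (n : ℕ) :
    t ≫ coconeApp s (n + 1) = coconeApp s n := by
  have := s.w (homOfLE (n.le_add_right 1))
  rw [Functor.ofSequence_map_homOfLE_succ] at this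
  exact this

/-- the descent map -/
noncomputable def seqDesc {G : 𝒜} {t : G ⟶ G} (s : Cocone (seqD t)) : cokernel (tel t) ⟶ s.pt :=
  cokernel.desc (tel t) (Sigma.desc (coconeApp s)) (by
    apply Sigma.hom_ext
    intro n
    rw [ι_tel_assoc, Preadditive.sub_comp, Category.assoc, Sigma.ι_desc, Sigma.ι_desc, comp_zero,
      coconeApp_w, sub_self])

lemma ι_π_seqDesc {G : 𝒜} {t : G ⟶ G} (s : Cocone (seqD t)) (n : ℕ) :
    Sigma.ι (fun _ : ℕ => G) n ≫ cokernel.π (tel t) ≫ seqDesc s = coconeApp s n := by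
  unfold seqDesc
  rw [cokernel.π_desc, Sigma.ι_desc]

lemma seqDesc_uniq {G : 𝒜} {t : G ⟶ G} (s : Cocone (seqD t)) (m : cokernel (tel t) ⟶ s.pt)
    (hm : ∀ n, Sigma.ι (fun _ : ℕ => G) n ≫ cokernel.π (tel t) ≫ m = coconeApp s n) :
    m = seqDesc s := by
  rw [← cancel_epi (cokernel.π (tel t))]
  apply Sigma.hom_ext
  intro n
  rw [hm n, ι_π_seqDesc]

/-- `coker (tel t)` is the colimit of `G →t G →t …` -/
noncomputable def seqIsColimit {G : 𝒜} (t : G ⟶ G) : IsColimit (seqCocone t) where
  desc s := seqDesc s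
  fac s n := by
    show (Sigma.ι (fun _ : ℕ => G) n ≫ cokernel.π (tel t)) ≫ seqDesc s = coconeApp s n
    rw [Category.assoc]
    exact ι_π_seqDesc s n
  uniq s m hm := by
    refine seqDesc_uniq s m (fun n => ?_)
    have h := hm n
    rw [← Category.assoc]
    exact h

end Seq

section Site

variable {C : Type u} [SmallCategory C] {J : GrothendieckTopology C} (O : Sheaf J CommRingCat.{u})

/-- **`O_f` is flat** -/
theorem isFlat_locAway_unit (s : DerComp.GSec O) :
    ModSite.IsFlat (DerComp.locAway s (ModSite.unit O)) :=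
  Groth.Agent.Lib.Helper5.KFlatSiteQ.isFlat_of_isColimit_nat O
    (seqD (DerComp.smulEnd s (ModSite.unit O))) (fun k => Groth.Agent.S6146.isFlat_unit O)
    (seqCocone (DerComp.smulEnd s (ModSite.unit O)))
    (seqIsColimit (DerComp.smulEnd s (ModSite.unit O)))

lemma isFlat_single_X (M : ModSite.Mod O) (hM : ModSite.IsFlat M) (n : ℤ) :
    ModSite.IsFlat (((CochainComplex.singleFunctor (ModSite.Mod O) 0).obj M).X n) := by
  by_cases hn : n = 0
  · subst hn
    exact Groth.Agent.S6146.isFlat_of_iso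
      (HomologicalComplex.singleObjXSelf (ComplexShape.up ℤ) 0 M).symm hM
  · exact Groth.Agent.S6149.isFlat_of_isZero _
      (HomologicalComplex.isZero_single_obj_X (ComplexShape.up ℤ) 0 M n hn)

/-- **`O_f[0]` is K-flat** -/
theorem isKFlat_single_locAway (s : DerComp.GSec O) :
    ModSite.IsKFlat ((CochainComplex.singleFunctor (ModSite.Mod O) 0).obj
      (DerComp.locAway s (ModSite.unit O))) := by
  refine Groth.Agent.Lib.Helper5.Misc.KFlatSite.isKFlat_of_concentrated O _ 0
    (fun m hm => HomologicalComplex.isZero_single_obj_X (ComplexShape.up ℤ) 0 _ m hm) ?_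
  exact isFlat_single_X O _ (isFlat_locAway_unit O s) 0

/-- the short exact sequence `0 → ∐ G → ∐ G → G_s → 0` -/
theorem shortExact_away (s : DerComp.GSec O) (G : ModSite.Mod O) :
    (ShortComplex.mk (tel (DerComp.smulEnd s G)) (cokernel.π (tel (DerComp.smulEnd s G)))
      (cokernel.condition _)).ShortExact := by
  haveI : Mono (tel (DerComp.smulEnd s G)) := mono_tel _
  exact ShortComplex.ShortExact.mk' (ShortComplex.exact_cokernel _) inferInstance inferInstance

/-- the short exact sequence `0 → Tot(X₀ ⊗ ∐O[0]) → Tot(X₀ ⊗ ∐O[0]) → Tot(X₀ ⊗ O_f[0]) → 0` -/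
theorem shortExact_tensor_away (s : DerComp.GSec O) (X₀ : CochainComplex (ModSite.Mod O) ℤ) :
    ∃ (z : ((ModSite.tensorCx O).obj X₀).map ((CochainComplex.singleFunctor (ModSite.Mod O) 0).map
          (tel (DerComp.smulEnd s (ModSite.unit O)))) ≫
        ((ModSite.tensorCx O).obj X₀).map ((CochainComplex.singleFunctor (ModSite.Mod O) 0).map
          (cokernel.π (tel (DerComp.smulEnd s (ModSite.unit O))))) = 0),
      (ShortComplex.mk _ _ z).ShortExact := by
  have hS₀ := shortExact_away O s (ModSite.unit O)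
  haveI : PreservesFiniteLimits (CochainComplex.singleFunctor (ModSite.Mod O) 0) :=
    inferInstanceAs (PreservesFiniteLimits
      (HomologicalComplex.single (ModSite.Mod O) (ComplexShape.up ℤ) 0))
  haveI : PreservesFiniteColimits (CochainComplex.singleFunctor (ModSite.Mod O) 0) :=
    inferInstanceAs (PreservesFiniteColimits
      (HomologicalComplex.single (ModSite.Mod O) (ComplexShape.up ℤ) 0))
  have hS₁ := hS₀.map_of_exact (CochainComplex.singleFunctor (ModSite.Mod O) 0)
  exact Groth.Agent.Lib.Helper5.Misc.KFlatSite.shortExact_tensorCx O _ hS₁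
    (fun n => isFlat_single_X O _ (isFlat_locAway_unit O s) n) X₀

end Site

end Groth.Agent.Lib.Helper6.DCAway
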