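import Mathlib
import Groth.Prelude.Def_DerComp
import Groth.Agent.Lib.Helper5.Misc.TensorSheaf

/-!
# The tensor product of sheaves of modules is linear over global sections (helper6)

`tensorBi_obj_map_smulEnd`: `N ⊗ (s • -) = s • (N ⊗ -)` for a global section `s`.
-/

set_option backward.isDefEq.respectTransparency.types false
set_option autoImplicit false
set_option linter.unusedSectionVars false
set_option linter.unusedVariables false
set_option linter.style.haveILetI false
universe u
open CategoryTheory CategoryTheory.Limits MonoidalCategory Opposite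

namespace Groth.Agent.Lib.Helper6.DCAway

open Groth.Agent.Lib.Helper5.TensorSheaf

variable {C : Type u} [SmallCategory C] {J : GrothendieckTopology C} (O : Sheaf J CommRingCat.{u})

/-- a component of a global section, typed over the presheaf of rings of `PM O` -/
abbrev gsec' (s : DerComp.GSec O) (X : Cᵒᵖ) :
    (O.obj ⋙ forget₂ CommRingCat.{u} RingCat.{u}).obj X := DerComp.GSec.val' s X

/-- `N ⊗ (s • -) = s • (N ⊗ -)` -/
theorem tensorBi_obj_map_smulEnd (s : DerComp.GSec O) (N M : ModSite.Mod O) :
    ((ModSite.tensorBi O).obj N).map (DerComp.smulEnd s M) =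
      DerComp.smulEnd s (((ModSite.tensorBi O).obj N).obj M) := by
  let Q : PM O := (fgt O).obj N ⊗ (fgt O).obj M
  let g : Q ⟶ Q := (fgt O).obj N ◁ (fgt O).map (DerComp.smulEnd s M)
  have hg : ∀ (X : Cᵒᵖ) (x : Q.obj X), (g.app X).hom x = gsec' O s X • x := by
    intro X x
    refine TensorProduct.induction_on x ?_ ?_ ?_
    · exact ((g.app X).hom.map_zero).trans (smul_zero (gsec' O s X)).symm
    · intro n m
      exact (TensorProduct.tmul_smul (gsec' O s X) n m)
    · intro a b ha hb
      exact ((g.app X).hom.map_add a b).trans
        ((congrArg₂ (· + ·) ha hb).trans (smul_add (gsec' O s X) a b).symm)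
  show (shf O).map g = DerComp.smulEnd s ((shf O).obj Q)
  apply ((adj O).homEquiv Q ((shf O).obj Q)).injective
  rw [Adjunction.homEquiv_unit, Adjunction.homEquiv_unit]
  have h3 := (adj O).unit.naturality g
  refine h3.symm.trans ?_
  ext X x
  exact (congrArg (((adj O).unit.app Q).app X).hom (hg X x)).trans
    ((((adj O).unit.app Q).app X).hom.map_smul (gsec' O s X) x)

end Groth.Agent.Lib.Helper6.DCAway
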