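import Mathlib
import Groth.Prelude.Def_DerComp
import Groth.Agent.Lib.Helper6.DCAway.TensLin
import Groth.Agent.Lib.Helper5.Misc.KFlatGen
import Groth.Agent.Lib.Helper5.KFlatSite2.TensorUnit

/-!
# The total tensor product of complexes: additivity, linearity, right unit (helper6)

* `additive_tensorCx_obj`, `tensorCx_obj_map_smul`: `Tot(X₀ ⊗ -)` is additive and linear over the
  global sections.
* `totUnitIso`: `X₀ ≅ Tot(X₀ ⊗ O[0])`.
-/

set_option backward.isDefEq.respectTransparency.types false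
set_option autoImplicit false
set_option linter.unusedSectionVars false
set_option linter.unusedVariables false
set_option linter.style.haveILetI false
universe u
open CategoryTheory CategoryTheory.Limits HomologicalComplex

namespace Groth.Agent.Lib.Helper6.DCAway

open Groth.Agent.Lib.Helper5.Misc.KFlatGen

variable {C : Type u} [SmallCategory C] {J : GrothendieckTopology C} (O : Sheaf J CommRingCat.{u})

/-- `N ⊗ (s • g) = s • (N ⊗ g)` -/
theorem tensorBi_obj_map_smul (s : DerComp.GSec O) (N : ModSite.Mod O) {M M' : ModSite.Mod O}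
    (g : M ⟶ M') :
    ((ModSite.tensorBi O).obj N).map (s • g) = s • ((ModSite.tensorBi O).obj N).map g := by
  rw [DerComp.smul_def, DerComp.smul_def, Functor.map_comp, tensorBi_obj_map_smulEnd]

lemma ι_tensorCx_obj_map (X₀ : CochainComplex (ModSite.Mod O) ℤ)
    {K L : CochainComplex (ModSite.Mod O) ℤ} (g : K ⟶ L) (p q n : ℤ)
    (h : ComplexShape.π (ComplexShape.up ℤ) (ComplexShape.up ℤ) (ComplexShape.up ℤ) (p, q) = n) :
    ιMapBifunctor X₀ K (ModSite.tensorBi O) (ComplexShape.up ℤ) p q n h ≫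
        (((ModSite.tensorCx O).obj X₀).map g).f n =
      ((ModSite.tensorBi O).obj (X₀.X p)).map (g.f q) ≫
        ιMapBifunctor X₀ L (ModSite.tensorBi O) (ComplexShape.up ℤ) p q n h := by
  have h1 := ι_mapBifunctorMap (𝟙 X₀) g (ModSite.tensorBi O) (ComplexShape.up ℤ) p q n h
  rw [HomologicalComplex.id_f, (ModSite.tensorBi O).map_id, NatTrans.id_app,
    Category.id_comp] at h1
  exact h1

instance additive_tensorCx_obj (X₀ : CochainComplex (ModSite.Mod O) ℤ) :
    ((ModSite.tensorCx O).obj X₀).Additive where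
  map_add {K L f g} := by
    ext n : 1
    apply mapBifunctor.hom_ext
    intro p q h
    have h1 := ι_tensorCx_obj_map O X₀ (f + g) p q n h
    have h2 := ι_tensorCx_obj_map O X₀ f p q n h
    have h3 := ι_tensorCx_obj_map O X₀ g p q n h
    have h4 : ((ModSite.tensorBi O).obj (X₀.X p)).map ((f + g).f q) =
        ((ModSite.tensorBi O).obj (X₀.X p)).map (f.f q) +
          ((ModSite.tensorBi O).obj (X₀.X p)).map (g.f q) := by
      rw [HomologicalComplex.add_f_apply, Functor.map_add]
    rw [h4, Preadditive.add_comp] at h1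
    refine h1.trans ?_
    exact (congrArg₂ (· + ·) h2.symm h3.symm).trans (Preadditive.comp_add _ _ _ _ _ _).symm

/-- `Tot(X₀ ⊗ (s • g)) = s • Tot(X₀ ⊗ g)` -/
theorem tensorCx_obj_map_smul (s : DerComp.GSec O) (X₀ : CochainComplex (ModSite.Mod O) ℤ)
    {K L : CochainComplex (ModSite.Mod O) ℤ} (g : K ⟶ L) :
    ((ModSite.tensorCx O).obj X₀).map (s • g) = s • ((ModSite.tensorCx O).obj X₀).map g := by
  ext n : 1
  apply mapBifunctor.hom_ext
  intro p q h
  have h1 := ι_tensorCx_obj_map O X₀ (s • g) p q n h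
  have h2 := ι_tensorCx_obj_map O X₀ g p q n h
  have h4 : ((ModSite.tensorBi O).obj (X₀.X p)).map ((s • g).f q) =
      s • ((ModSite.tensorBi O).obj (X₀.X p)).map (g.f q) := by
    rw [HomologicalComplex.smul_f_apply, tensorBi_obj_map_smul]
  rw [h4, Linear.smul_comp] at h1
  refine h1.trans ?_
  exact (congrArg (fun t => s • t) h2.symm).trans (Linear.comp_smul _ _ _ _ _ _).symm

section Unit

/-- `O[0]` -/
noncomputable abbrev sU : CochainComplex (ModSite.Mod O) ℤ :=
  (HomologicalComplex.single (ModSite.Mod O) (ComplexShape.up ℤ) 0).obj (ModSite.unit O)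

lemma isZero_sU_X (n : ℤ) (hn : n ≠ 0) : IsZero ((sU O).X n) :=
  HomologicalComplex.isZero_single_obj_X _ _ _ _ hn

/-- `N ⊗ O ≅ N` typed through `tensorBi.obj` -/
noncomputable def ru (N : ModSite.Mod O) :
    ((ModSite.tensorBi O).obj N).obj (ModSite.unit O) ≅ N :=
  Groth.Agent.Lib.Helper5.TensorUnit.unitIsoApp O N

lemma ru_naturality {N N' : ModSite.Mod O} (f : N ⟶ N') :
    ((ModSite.tensorBi O).map f).app (ModSite.unit O) ≫ (ru O N').hom = (ru O N).hom ≫ f :=
  Groth.Agent.Lib.Helper5.TensorUnit.unitIsoApp_naturality O f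

lemma ru_inv_naturality {N N' : ModSite.Mod O} (f : N ⟶ N') :
    (ru O N).inv ≫ ((ModSite.tensorBi O).map f).app (ModSite.unit O) = f ≫ (ru O N').inv := by
  rw [Iso.inv_comp_eq, ← Category.assoc, Iso.eq_comp_inv]
  exact ru_naturality O f

/-- the components of `totUnitIso` -/
noncomputable def totUnitX (X₀ : CochainComplex (ModSite.Mod O) ℤ) (n : ℤ) :
    X₀.X n ≅ (mapBifunctor X₀ (sU O) (ModSite.tensorBi O) (ComplexShape.up ℤ)).X n :=
  (ru O (X₀.X n)).symm ≪≫
    ((ModSite.tensorBi O).obj (X₀.X n)).mapIso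
      (HomologicalComplex.singleObjXSelf (ComplexShape.up ℤ) 0 (ModSite.unit O)).symm ≪≫
    @asIso _ _ _ _ (ιMapBifunctor X₀ (sU O) (ModSite.tensorBi O) (ComplexShape.up ℤ) n 0 n
        (add_zero n))
      (isIso_ι_concentrated (ModSite.tensorBi O) X₀ (sU O) 0 (isZero_sU_X O) n n (add_zero n))

lemma totUnitX_hom (X₀ : CochainComplex (ModSite.Mod O) ℤ) (n : ℤ) :
    (totUnitX O X₀ n).hom = (ru O (X₀.X n)).inv ≫
      ((ModSite.tensorBi O).obj (X₀.X n)).map
        (HomologicalComplex.singleObjXSelf (ComplexShape.up ℤ) 0 (ModSite.unit O)).inv ≫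
      ιMapBifunctor X₀ (sU O) (ModSite.tensorBi O) (ComplexShape.up ℤ) n 0 n (add_zero n) := rfl

lemma totUnitX_comm (X₀ : CochainComplex (ModSite.Mod O) ℤ) (i : ℤ) :
    (totUnitX O X₀ i).hom ≫
        (mapBifunctor X₀ (sU O) (ModSite.tensorBi O) (ComplexShape.up ℤ)).d i (i + 1) =
      X₀.d i (i + 1) ≫ (totUnitX O X₀ (i + 1)).hom := by
  have h := ι_d_concentrated' (ModSite.tensorBi O) X₀ (sU O) 0 (isZero_sU_X O) i (i + 1) i (i + 1)
    rfl rfl (add_zero i) (add_zero (i + 1))
  have hnat := ((ModSite.tensorBi O).map (X₀.d i (i + 1))).naturality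
    (HomologicalComplex.singleObjXSelf (ComplexShape.up ℤ) 0 (ModSite.unit O)).inv
  have hru := ru_inv_naturality O (X₀.d i (i + 1))
  rw [totUnitX_hom, totUnitX_hom, Category.assoc, Category.assoc, h, ← Category.assoc
    (((ModSite.tensorBi O).obj (X₀.X i)).map _), hnat, Category.assoc, ← Category.assoc
    (ru O (X₀.X i)).inv, hru, Category.assoc]

/-- **`X₀ ≅ Tot(X₀ ⊗ O[0])`** -/
noncomputable def totUnitIso (X₀ : CochainComplex (ModSite.Mod O) ℤ) :
    X₀ ≅ ((ModSite.tensorCx O).obj X₀).obj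
      ((CochainComplex.singleFunctor (ModSite.Mod O) 0).obj (ModSite.unit O)) :=
  HomologicalComplex.Hom.isoOfComponents (fun n => totUnitX O X₀ n) (by
    intro i j hij
    have hij' : i + 1 = j := hij
    subst hij'
    exact totUnitX_comm O X₀ i)

end Unit

end Groth.Agent.Lib.Helper6.DCAway
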