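import Mathlib
import Groth.Prelude.Def_DerComp
import Groth.Agent.Lib.Helper6.DCAway.Abstract
import Groth.Agent.Lib.Helper6.DCAway.TotLin
import Groth.Agent.Lib.Helper6.DCAway.Flat
import Groth.Agent.Lib.Helper5.LTen.FlatAmp
import Groth.Agent.Lib.Helper5.KFlatSite2.Res

/-!
# `RHom(O_f, K) = 0` iff `T(K, f) = 0` on a ringed site (helper6)

`isZero_rhom_away_iff`.  For `X = Q(X₀)` the object `X ⊗^L O_f = Q(Tot(X₀ ⊗ O_f[0]))` is the cone of
the telescope `1 - f·shift` on `∐_ℕ Q(Tot(X₀ ⊗ O[0])) = ∐_ℕ X`; the formal part is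
`isZero_iff_of_telescope`.
-/

set_option backward.isDefEq.respectTransparency.types false
set_option autoImplicit false
set_option linter.unusedSectionVars false
set_option linter.unusedVariables false
set_option linter.style.haveILetI false
universe w v u
open CategoryTheory CategoryTheory.Limits CategoryTheory.Pretriangulated Opposite
attribute [local instance] HasDerivedCategory.standard

namespace Groth.Agent.Lib.Helper6.DCAway

open Groth.Agent.Lib.Helper6.DCPush Groth.Agent.Lib.Helper6.DCLoc Groth.Agent.Helper3.DCoprod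

section QCofan

variable {A : Type u} [Category.{v} A] [Abelian A] [HasDerivedCategory.{w} A]
  [HasColimitsOfShape (Discrete ℕ) A] [HasExactColimitsOfShape (Discrete ℕ) A]

/-- `Q` carries countable coproducts of complexes to coproducts in `D(A)` -/
theorem nonempty_isColimit_Q_cofan (K : ℕ → CochainComplex A ℤ) {P : CochainComplex A ℤ}
    (g : ∀ j, K j ⟶ P) (hc : IsColimit (Cofan.mk P g)) :
    Nonempty (IsColimit (Cofan.mk (DerivedCategory.Q.obj P)
      (fun j => DerivedCategory.Q.map (g j)))) := by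
  have h1 : IsColimit (Cofan.mk (cK K) (inK K)) := isColimitCK K
  let ec : cK K ≅ P := IsColimit.coconePointUniqueUpToIso h1 hc
  have hec : ∀ j : ℕ, inK K j ≫ ec.hom = g j := fun j =>
    IsColimit.comp_coconePointUniqueUpToIso_hom h1 hc ⟨j⟩
  refine ⟨isColimitCofanOfIso (fun j => Iso.refl _) (DerivedCategory.Q.mapIso ec) (fun j => ?_)
    (isColimitCofan K)⟩
  show DerivedCategory.Q.map (inK K j) ≫ DerivedCategory.Q.map ec.hom =
    𝟙 _ ≫ DerivedCategory.Q.map (g j)
  rw [Category.id_comp, ← Functor.map_comp, hec]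

end QCofan

variable {C : Type u} [SmallCategory C] {J : GrothendieckTopology C} (O : Sheaf J CommRingCat.{u})

/-- `Φ_{X₀}(M) = Q(Tot(X₀ ⊗ M[0]))` -/
noncomputable abbrev Phi (X₀ : CochainComplex (ModSite.Mod O) ℤ) :
    ModSite.Mod O ⥤ DerivedCategory (ModSite.Mod O) :=
  CochainComplex.singleFunctor (ModSite.Mod O) 0 ⋙ (ModSite.tensorCx O).obj X₀ ⋙ DerivedCategory.Q

lemma Phi_map_smul (s : DerComp.GSec O) (X₀ : CochainComplex (ModSite.Mod O) ℤ)
    {M M' : ModSite.Mod O} (g : M ⟶ M') : (Phi O X₀).map (s • g) = s • (Phi O X₀).map g := by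
  show DerivedCategory.Q.map (((ModSite.tensorCx O).obj X₀).map
      ((CochainComplex.singleFunctor (ModSite.Mod O) 0).map (s • g))) =
    s • DerivedCategory.Q.map (((ModSite.tensorCx O).obj X₀).map
      ((CochainComplex.singleFunctor (ModSite.Mod O) 0).map g))
  rw [Functor.map_smul, tensorCx_obj_map_smul, Functor.map_smul]

lemma Phi_map_smulEnd (s : DerComp.GSec O) (X₀ : CochainComplex (ModSite.Mod O) ℤ)
    (M : ModSite.Mod O) :
    (Phi O X₀).map (DerComp.smulEnd s M) = s • 𝟙 ((Phi O X₀).obj M) := by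
  have hs1 : DerComp.smulEnd s M = s • 𝟙 M := by
    rw [DerComp.smul_def, Category.comp_id]
  rw [hs1, Phi_map_smul, CategoryTheory.Functor.map_id]

/-- `Φ_{X₀}` commutes with countable coproducts -/
theorem nonempty_isColimit_Phi (X₀ : CochainComplex (ModSite.Mod O) ℤ) (M : ModSite.Mod O) :
    Nonempty (IsColimit (Cofan.mk ((Phi O X₀).obj (∐ fun _ : ℕ => M))
      (fun j : ℕ => (Phi O X₀).map (Sigma.ι (fun _ : ℕ => M) j)))) := by
  haveI : PreservesColimitsOfShape (Discrete ℕ)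
      (CochainComplex.singleFunctor (ModSite.Mod O) 0) :=
    inferInstanceAs (PreservesColimitsOfShape (Discrete ℕ)
      (HomologicalComplex.single (ModSite.Mod O) (ComplexShape.up ℤ) 0))
  have h2 : IsColimit (Cofan.mk
      ((CochainComplex.singleFunctor (ModSite.Mod O) 0).obj (∐ fun _ : ℕ => M))
      (fun j : ℕ => (CochainComplex.singleFunctor (ModSite.Mod O) 0).map
        (Sigma.ι (fun _ : ℕ => M) j))) :=
    isColimitCofanMkObjOfIsColimit (CochainComplex.singleFunctor (ModSite.Mod O) 0) _ _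
      (coproductIsCoproduct (fun _ : ℕ => M))
  have h3 := Groth.Agent.Lib.Helper5.Misc.KFlatGen.isColimitTot (ModSite.tensorBi O) X₀ _ h2
  have h4 := (isColimitMapCoconeCofanMkEquiv ((ModSite.tensorCx O).obj X₀) _ _) h3
  exact nonempty_isColimit_Q_cofan
    (fun _ : ℕ => ((ModSite.tensorCx O).obj X₀).obj
      ((CochainComplex.singleFunctor (ModSite.Mod O) 0).obj M)) _ h4

/-- `X ⊗^L O_f` is the cone of the telescope on `∐_ℕ X` -/
theorem exists_telescope (s : DerComp.GSec O)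
    [ModSite.HasLTensorCx ((CochainComplex.singleFunctor (ModSite.Mod O) 0).obj
      (DerComp.locAway s (ModSite.unit O)))]
    (X : DerivedCategory (ModSite.Mod O)) :
    ∃ (Y Xc E : DerivedCategory (ModSite.Mod O)) (ι : ℕ → (Y ⟶ Xc))
      (_ : Nonempty (IsColimit (Cofan.mk Xc ι)))
      (a : Xc ⟶ Xc) (b : Xc ⟶ E) (c : E ⟶ Xc⟦(1 : ℤ)⟧),
      (∀ i, ι i ≫ a = ι i - (s • 𝟙 Y) ≫ ι (i + 1)) ∧
        Triangle.mk a b c ∈ distTriang (DerivedCategory (ModSite.Mod O)) ∧
        Nonempty (Y ≅ X) ∧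
        Nonempty (E ≅ (ModSite.LTensorCx ((CochainComplex.singleFunctor (ModSite.Mod O) 0).obj
          (DerComp.locAway s (ModSite.unit O)))).obj X) := by
  let X₀ := DerivedCategory.Q.objPreimage X
  let eX : DerivedCategory.Q.obj X₀ ≅ X := DerivedCategory.Q.objObjPreimageIso X
  obtain ⟨z, hS⟩ := shortExact_tensor_away O s X₀
  refine ⟨(Phi O X₀).obj (ModSite.unit O), (Phi O X₀).obj (∐ fun _ : ℕ => ModSite.unit O),
    (Phi O X₀).obj (DerComp.locAway s (ModSite.unit O)),
    fun j => (Phi O X₀).map (Sigma.ι (fun _ : ℕ => ModSite.unit O) j),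
    nonempty_isColimit_Phi O X₀ (ModSite.unit O),
    (Phi O X₀).map (tel (DerComp.smulEnd s (ModSite.unit O))),
    (Phi O X₀).map (cokernel.π (tel (DerComp.smulEnd s (ModSite.unit O)))),
    DerivedCategory.triangleOfSESδ hS, ?_, ?_, ?_, ?_⟩
  · intro i
    show (Phi O X₀).map (Sigma.ι (fun _ : ℕ => ModSite.unit O) i) ≫
        (Phi O X₀).map (tel (DerComp.smulEnd s (ModSite.unit O))) =
      (Phi O X₀).map (Sigma.ι (fun _ : ℕ => ModSite.unit O) i) -
        (s • 𝟙 ((Phi O X₀).obj (ModSite.unit O))) ≫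
          (Phi O X₀).map (Sigma.ι (fun _ : ℕ => ModSite.unit O) (i + 1))
    rw [← Functor.map_comp, ι_tel, Functor.map_sub, Functor.map_comp, Phi_map_smulEnd]
  · exact DerivedCategory.triangleOfSES_distinguished hS
  · exact ⟨DerivedCategory.Q.mapIso (totUnitIso O X₀).symm ≪≫ eX⟩
  · exact ⟨(Groth.Agent.Lib.Helper5.FlatAmp.ltensorObjIso O _ (isKFlat_single_locAway O s) X₀).symm ≪≫
      (ModSite.LTensorCx _).mapIso eX⟩

/-- `- ⊗^L O_f` commutes with shifts on objects -/
theorem exists_shift_iso (s : DerComp.GSec O)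
    [ModSite.HasLTensorCx ((CochainComplex.singleFunctor (ModSite.Mod O) 0).obj
      (DerComp.locAway s (ModSite.unit O)))]
    (X : DerivedCategory (ModSite.Mod O)) (k : ℤ) :
    ∃ X' : DerivedCategory (ModSite.Mod O),
      Nonempty (((ModSite.LTensorCx ((CochainComplex.singleFunctor (ModSite.Mod O) 0).obj
        (DerComp.locAway s (ModSite.unit O)))).obj X)⟦k⟧ ≅
        (ModSite.LTensorCx ((CochainComplex.singleFunctor (ModSite.Mod O) 0).obj
          (DerComp.locAway s (ModSite.unit O)))).obj X') := by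
  let X₀ := DerivedCategory.Q.objPreimage X
  let eX : DerivedCategory.Q.obj X₀ ≅ X := DerivedCategory.Q.objObjPreimageIso X
  let P₀ : CochainComplex (ModSite.Mod O) ℤ := (CochainComplex.singleFunctor (ModSite.Mod O) 0).obj
    (DerComp.locAway s (ModSite.unit O))
  have hP₀ : ModSite.IsKFlat P₀ := isKFlat_single_locAway O s
  let e1 : ((ModSite.LTensorCx P₀).obj X)⟦k⟧ ≅
      ((ModSite.LTensorCx P₀).obj (DerivedCategory.Q.obj X₀))⟦k⟧ :=
    (CategoryTheory.shiftFunctor _ k).mapIso ((ModSite.LTensorCx P₀).mapIso eX.symm)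
  let e2 : ((ModSite.LTensorCx P₀).obj (DerivedCategory.Q.obj X₀))⟦k⟧ ≅
      (DerivedCategory.Q.obj (((ModSite.tensorCx O).obj X₀).obj P₀))⟦k⟧ :=
    (CategoryTheory.shiftFunctor _ k).mapIso
      (Groth.Agent.Lib.Helper5.FlatAmp.ltensorObjIso O P₀ hP₀ X₀)
  let e3 : (DerivedCategory.Q.obj (((ModSite.tensorCx O).obj X₀).obj P₀))⟦k⟧ ≅
      DerivedCategory.Q.obj ((((ModSite.tensorCx O).obj X₀).obj P₀)⟦k⟧) :=
    ((DerivedCategory.Q.commShiftIso k).app _).symm
  let e4 : DerivedCategory.Q.obj ((((ModSite.tensorCx O).obj X₀).obj P₀)⟦k⟧) ≅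
      DerivedCategory.Q.obj (((ModSite.tensorCx O).obj (X₀⟦k⟧)).obj P₀) :=
    DerivedCategory.Q.mapIso
      (CochainComplex.mapBifunctorShift₁Iso X₀ P₀ (ModSite.tensorBi O) k).symm
  let e5 : DerivedCategory.Q.obj (((ModSite.tensorCx O).obj (X₀⟦k⟧)).obj P₀) ≅
      (ModSite.LTensorCx P₀).obj (DerivedCategory.Q.obj (X₀⟦k⟧)) :=
    (Groth.Agent.Lib.Helper5.FlatAmp.ltensorObjIso O P₀ hP₀ (X₀⟦k⟧)).symm
  exact ⟨DerivedCategory.Q.obj (X₀⟦k⟧), ⟨e1 ≪≫ e2 ≪≫ e3 ≪≫ e4 ≪≫ e5⟩⟩

/-- **`RHom(O_f, K) = 0` iff `T(K, f) = 0`** -/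
theorem isZero_rhom_away_iff (s : DerComp.GSec O)
    [ModSite.HasLTensorCx ((CochainComplex.singleFunctor (ModSite.Mod O) 0).obj
      (DerComp.locAway s (ModSite.unit O)))]
    [DerComp.HasRHom ((CochainComplex.singleFunctor (ModSite.Mod O) 0).obj
      (DerComp.locAway s (ModSite.unit O)))]
    (K : DerivedCategory (ModSite.Mod O)) [HasProduct fun _ : ℕ => K] :
    IsZero ((DerComp.RHom ((CochainComplex.singleFunctor (ModSite.Mod O) 0).obj
      (DerComp.locAway s (ModSite.unit O)))).obj K) ↔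
      ∀ L : DerivedCategory (ModSite.Mod O), DerComp.IsT s K L → IsZero L :=
  isZero_iff_of_telescope (fun X => s • 𝟙 X)
    (fun X Y m x => by
      show (s • 𝟙 X)⟦m⟧' ≫ x = x ≫ (s • 𝟙 Y)
      rw [Functor.map_smul, CategoryTheory.Functor.map_id, Linear.smul_comp, Category.id_comp,
        Linear.comp_smul, Category.comp_id])
    (DerComp.RHomAdj ((CochainComplex.singleFunctor (ModSite.Mod O) 0).obj
      (DerComp.locAway s (ModSite.unit O))))
    (exists_telescope O s) (exists_shift_iso O s) K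

end Groth.Agent.Lib.Helper6.DCAway
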