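import Mathlib
import Groth.Prelude.Def_DerComp
import Groth.Agent.Lib.Helper6.DCAway.TensLin
import Groth.Agent.Lib.Helper6.DCAway.TotLin

/-!
# Linearity of the tensor product in the first variable (helper6)

`tensorBi_map_app_smulEnd`: `(s • -) ⊗ M = s • (- ⊗ M)`; `tensorCx_map_app_smul`: the same for the
total tensor product of complexes.
-/

set_option backward.isDefEq.respectTransparency.types false
set_option autoImplicit false
set_option linter.unusedSectionVars false
set_option linter.unusedVariables false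
set_option linter.style.haveILetI false
universe u
open CategoryTheory CategoryTheory.Limits MonoidalCategory Opposite HomologicalComplex

namespace Groth.Agent.Lib.Helper6.DCAway

open Groth.Agent.Lib.Helper5.TensorSheaf

variable {C : Type u} [SmallCategory C] {J : GrothendieckTopology C} (O : Sheaf J CommRingCat.{u})

/-- `(s • -) ⊗ M = s • (- ⊗ M)` -/
theorem tensorBi_map_app_smulEnd (s : DerComp.GSec O) (N M : ModSite.Mod O) :
    ((ModSite.tensorBi O).map (DerComp.smulEnd s N)).app M =
      DerComp.smulEnd s (((ModSite.tensorBi O).obj N).obj M) := by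
  let Q : PM O := (fgt O).obj N ⊗ (fgt O).obj M
  let g : Q ⟶ Q := (fgt O).map (DerComp.smulEnd s N) ▷ (fgt O).obj M
  have hg : ∀ (X : Cᵒᵖ) (x : Q.obj X), (g.app X).hom x = gsec' O s X • x := by
    intro X x
    refine TensorProduct.induction_on x ?_ ?_ ?_
    · exact ((g.app X).hom.map_zero).trans (smul_zero (gsec' O s X)).symm
    · intro n m
      exact (TensorProduct.smul_tmul' (gsec' O s X) n m).symm
    · intro a b ha hb
      exact ((g.app X).hom.map_add a b).trans
        ((congrArg₂ (· + ·) ha hb).trans (smul_add (gsec' O s X) a b).symm)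
  show (shf O).map g = DerComp.smulEnd s ((shf O).obj Q)
  apply ((adj O).homEquiv Q ((shf O).obj Q)).injective
  rw [Adjunction.homEquiv_unit, Adjunction.homEquiv_unit]
  have h3 := (adj O).unit.naturality g
  refine h3.symm.trans ?_
  ext X x
  exact (congrArg (((adj O).unit.app Q).app X).hom (hg X x)).trans
    ((((adj O).unit.app Q).app X).hom.map_smul (gsec' O s X) x)

/-- `(s • f) ⊗ M = s • (f ⊗ M)` -/
theorem tensorBi_map_app_smul (s : DerComp.GSec O) {N N' : ModSite.Mod O} (f : N ⟶ N')
    (M : ModSite.Mod O) :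
    ((ModSite.tensorBi O).map (s • f)).app M = s • ((ModSite.tensorBi O).map f).app M := by
  rw [DerComp.smul_def, DerComp.smul_def, Functor.map_comp, NatTrans.comp_app,
    tensorBi_map_app_smulEnd]

lemma ι_tensorCx_map_app {X₀ X₀' : CochainComplex (ModSite.Mod O) ℤ} (φ : X₀ ⟶ X₀')
    (K : CochainComplex (ModSite.Mod O) ℤ) (p q n : ℤ)
    (h : ComplexShape.π (ComplexShape.up ℤ) (ComplexShape.up ℤ) (ComplexShape.up ℤ) (p, q) = n) :
    ιMapBifunctor X₀ K (ModSite.tensorBi O) (ComplexShape.up ℤ) p q n h ≫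
        (((ModSite.tensorCx O).map φ).app K).f n =
      ((ModSite.tensorBi O).map (φ.f p)).app (K.X q) ≫
        ιMapBifunctor X₀' K (ModSite.tensorBi O) (ComplexShape.up ℤ) p q n h := by
  have h1 := ι_mapBifunctorMap φ (𝟙 K) (ModSite.tensorBi O) (ComplexShape.up ℤ) p q n h
  rw [HomologicalComplex.id_f, CategoryTheory.Functor.map_id, Category.id_comp] at h1
  exact h1

/-- `Tot((s • φ) ⊗ K) = s • Tot(φ ⊗ K)` -/
theorem tensorCx_map_app_smul (s : DerComp.GSec O) {X₀ X₀' : CochainComplex (ModSite.Mod O) ℤ}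
    (φ : X₀ ⟶ X₀') (K : CochainComplex (ModSite.Mod O) ℤ) :
    ((ModSite.tensorCx O).map (s • φ)).app K = s • ((ModSite.tensorCx O).map φ).app K := by
  ext n : 1
  apply mapBifunctor.hom_ext
  intro p q h
  have h1 := ι_tensorCx_map_app O (s • φ) K p q n h
  have h2 := ι_tensorCx_map_app O φ K p q n h
  have h4 : ((ModSite.tensorBi O).map ((s • φ).f p)).app (K.X q) =
      s • ((ModSite.tensorBi O).map (φ.f p)).app (K.X q) := by
    rw [HomologicalComplex.smul_f_apply, tensorBi_map_app_smul]
  rw [h4, Linear.smul_comp] at h1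
  refine h1.trans ?_
  exact (congrArg (fun t => s • t) h2.symm).trans (Linear.comp_smul _ _ _ _ _ _).symm

/-- naturality of `totUnitIso` -/
theorem totUnitIso_naturality {X₀ X₀' : CochainComplex (ModSite.Mod O) ℤ} (φ : X₀ ⟶ X₀') :
    φ ≫ (totUnitIso O X₀').hom =
      (totUnitIso O X₀).hom ≫ ((ModSite.tensorCx O).map φ).app
        ((CochainComplex.singleFunctor (ModSite.Mod O) 0).obj (ModSite.unit O)) := by
  ext n : 1
  show φ.f n ≫ (totUnitX O X₀' n).hom = (totUnitX O X₀ n).hom ≫
    (((ModSite.tensorCx O).map φ).app (sU O)).f n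
  have h1 := ι_tensorCx_map_app O φ (sU O) n 0 n (add_zero n)
  have hnat := ((ModSite.tensorBi O).map (φ.f n)).naturality
    (HomologicalComplex.singleObjXSelf (ComplexShape.up ℤ) 0 (ModSite.unit O)).inv
  have hru := ru_inv_naturality O (φ.f n)
  rw [totUnitX_hom, totUnitX_hom, Category.assoc, Category.assoc, h1]
  have e1 := ((Category.assoc _ _ _).symm.trans (congrArg (fun z => z ≫
    ιMapBifunctor X₀' (sU O) (ModSite.tensorBi O) (ComplexShape.up ℤ) n 0 n (add_zero n))
    hnat)).trans (Category.assoc _ _ _)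
  have e2 := ((Category.assoc _ _ _).symm.trans (congrArg (fun z => z ≫
    (((ModSite.tensorBi O).obj (X₀'.X n)).map
      (HomologicalComplex.singleObjXSelf (ComplexShape.up ℤ) 0 (ModSite.unit O)).inv ≫
    ιMapBifunctor X₀' (sU O) (ModSite.tensorBi O) (ComplexShape.up ℤ) n 0 n (add_zero n)))
    hru)).trans (Category.assoc _ _ _)
  exact ((congrArg (fun z => (ru O (X₀.X n)).inv ≫ z) e1).trans e2).symm

end Groth.Agent.Lib.Helper6.DCAway
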