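import Mathlib
import Groth.Prelude.Def_DerComp
import Groth.Agent.Lib.Helper6.DCAway.Main
import Groth.Agent.Lib.Helper6.DCAway.TensLin1
import Groth.Agent.Lib.Helper6.DCAway.Corefl

/-!
# `RHom(O_f, K)` is a derived limit `T(K, f)` on a ringed site (helper6)

`isT_rhom_away`.  The formal part is `isT_of_coreflection`; here: `f` is invertible on `O_f`,
`- ⊗^L O_f` is linear over the global sections, the natural map `X ⟶ X ⊗^L O_f`, and its
compatibility with the telescope triangle.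
-/

set_option backward.isDefEq.respectTransparency.types false
set_option autoImplicit false
set_option linter.unusedSectionVars false
set_option linter.unusedVariables false
set_option linter.style.haveILetI false
universe u
open CategoryTheory CategoryTheory.Limits CategoryTheory.Pretriangulated Opposite
attribute [local instance] HasDerivedCategory.standard

namespace Groth.Agent.Lib.Helper6.DCAway

open Groth.Agent.Lib.Helper6.DCPush Groth.Agent.Lib.Helper6.DCLoc

lemma compat_aux {𝒞 : Type*} [Category 𝒞] {X QX Y Xc E FQ FX : 𝒞} (A : X ⟶ QX) (eh : QX ⟶ X)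
    (h1 : A ≫ eh = 𝟙 X) (B : QX ⟶ Y) (C1 : Y ⟶ Xc) (C2 : Xc ⟶ E) (D : E ⟶ FQ) (Em : FQ ⟶ FX)
    (β : QX ⟶ E) (jQ : QX ⟶ FQ) (jX : X ⟶ FX) (hβ : B ≫ C1 ≫ C2 = β) (hj1 : jQ = β ≫ D)
    (hnat : eh ≫ jX = jQ ≫ Em) : (A ≫ B) ≫ C1 ≫ C2 ≫ (D ≫ Em) = jX := by
  calc (A ≫ B) ≫ C1 ≫ C2 ≫ (D ≫ Em) = A ≫ (B ≫ C1 ≫ C2) ≫ D ≫ Em := by
        simp only [Category.assoc]
    _ = A ≫ β ≫ D ≫ Em := by rw [hβ]
    _ = A ≫ jQ ≫ Em := by rw [hj1, Category.assoc]
    _ = A ≫ eh ≫ jX := by rw [hnat]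
    _ = jX := by rw [← Category.assoc, h1, Category.id_comp]

variable {C : Type u} [SmallCategory C] {J : GrothendieckTopology C} (O : Sheaf J CommRingCat.{u})

section Inv

/-- the shift `ι_n ↦ ι_{n+1}` on `∐_ℕ G` -/
noncomputable def sigSh (G : ModSite.Mod O) : (∐ fun _ : ℕ => G) ⟶ ∐ fun _ : ℕ => G :=
  Sigma.desc fun n => Sigma.ι (fun _ : ℕ => G) (n + 1)

lemma ι_sigSh (G : ModSite.Mod O) (n : ℕ) :
    Sigma.ι (fun _ : ℕ => G) n ≫ sigSh O G = Sigma.ι (fun _ : ℕ => G) (n + 1) := by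
  unfold sigSh
  exact Sigma.ι_desc _ _

lemma tel_sigSh (G : ModSite.Mod O) (t : G ⟶ G) : tel t ≫ sigSh O G = sigSh O G ≫ tel t := by
  apply Sigma.hom_ext
  intro n
  rw [ι_tel_assoc, Preadditive.sub_comp, Category.assoc, ι_sigSh, ι_sigSh, ← Category.assoc,
    ι_sigSh, ι_tel]

/-- **`s` is invertible on `G_s`** -/
theorem isIso_smulEnd_locAway (s : DerComp.GSec O) (G : ModSite.Mod O) :
    IsIso (DerComp.smulEnd s (DerComp.locAway s G)) := by
  let t : G ⟶ G := DerComp.smulEnd s G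
  let Lc : ModSite.Mod O := cokernel (tel t)
  let π : (∐ fun _ : ℕ => G) ⟶ Lc := cokernel.π (tel t)
  have h0 : tel t ≫ sigSh O G ≫ π = 0 := by
    rw [← Category.assoc, tel_sigSh, Category.assoc, cokernel.condition, comp_zero]
  let shb : Lc ⟶ Lc := cokernel.desc (tel t) (sigSh O G ≫ π) h0
  have hπ : π ≫ shb = sigSh O G ≫ π := cokernel.π_desc _ _ _
  have h1 : DerComp.smulEnd s Lc ≫ shb = 𝟙 Lc := by
    rw [← cancel_epi π]
    apply Sigma.hom_ext
    intro n
    have e1 : π ≫ DerComp.smulEnd s Lc = DerComp.smulEnd s (∐ fun _ : ℕ => G) ≫ π :=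
      (DerComp.smulEnd_comm s π).symm
    have e2 : Sigma.ι (fun _ : ℕ => G) n ≫ DerComp.smulEnd s (∐ fun _ : ℕ => G) =
        t ≫ Sigma.ι (fun _ : ℕ => G) n := (DerComp.smulEnd_comm s _).symm
    have e3 := Groth.Agent.Lib.Helper6.DCAway.ι_cokernel_π t n
    rw [← Category.assoc π, e1, Category.assoc, hπ, ← Category.assoc, e2, Category.assoc,
      ← Category.assoc (Sigma.ι _ n), ι_sigSh, Category.comp_id]
    exact e3
  have h2 : shb ≫ DerComp.smulEnd s Lc = 𝟙 Lc := by
    rw [← DerComp.smulEnd_comm s shb]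
    exact h1
  exact ⟨⟨shb, h1, h2⟩⟩

end Inv

/-- the map `O[0] ⟶ O_f[0]` -/
noncomputable abbrev mAway (s : DerComp.GSec O) :
    (CochainComplex.singleFunctor (ModSite.Mod O) 0).obj (ModSite.unit O) ⟶
      (CochainComplex.singleFunctor (ModSite.Mod O) 0).obj (DerComp.locAway s (ModSite.unit O)) :=
  (CochainComplex.singleFunctor (ModSite.Mod O) 0).map (DerComp.toLocAway s (ModSite.unit O))

/-- `Q(X₀) ⟶ Q(Tot(X₀ ⊗ O_f[0]))`, natural in `X₀` -/
noncomputable def betaNat (s : DerComp.GSec O) :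
    DerivedCategory.Q ⋙ 𝟭 (DerivedCategory (ModSite.Mod O)) ⟶
      ModSite.tensorCxQ ((CochainComplex.singleFunctor (ModSite.Mod O) 0).obj
        (DerComp.locAway s (ModSite.unit O))) where
  app X₀ := DerivedCategory.Q.map ((totUnitIso O X₀).hom ≫
    ((ModSite.tensorCx O).obj X₀).map (mAway O s))
  naturality X₀ X₀' φ := by
    show DerivedCategory.Q.map φ ≫ DerivedCategory.Q.map ((totUnitIso O X₀').hom ≫
        ((ModSite.tensorCx O).obj X₀').map (mAway O s)) =
      DerivedCategory.Q.map ((totUnitIso O X₀).hom ≫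
        ((ModSite.tensorCx O).obj X₀).map (mAway O s)) ≫
        DerivedCategory.Q.map (((ModSite.tensorCx O).map φ).app _)
    rw [← Functor.map_comp, ← Functor.map_comp]
    congr 1
    rw [← Category.assoc, totUnitIso_naturality, Category.assoc, Category.assoc]
    congr 1
    exact (((ModSite.tensorCx O).map φ).naturality (mAway O s)).symm

variable (s : DerComp.GSec O)
  [ModSite.HasLTensorCx ((CochainComplex.singleFunctor (ModSite.Mod O) 0).obj
    (DerComp.locAway s (ModSite.unit O)))]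

/-- the natural map `X ⟶ X ⊗^L O_f` -/
noncomputable def jNat :
    𝟭 (DerivedCategory (ModSite.Mod O)) ⟶
      ModSite.LTensorCx ((CochainComplex.singleFunctor (ModSite.Mod O) 0).obj
        (DerComp.locAway s (ModSite.unit O))) :=
  (ModSite.LTensorCx ((CochainComplex.singleFunctor (ModSite.Mod O) 0).obj
    (DerComp.locAway s (ModSite.unit O)))).leftDerivedLift
    ((ModSite.tensorCxQ ((CochainComplex.singleFunctor (ModSite.Mod O) 0).obj
      (DerComp.locAway s (ModSite.unit O)))).totalLeftDerivedCounit DerivedCategory.Q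
      (HomologicalComplex.quasiIso (ModSite.Mod O) (ComplexShape.up ℤ)))
    (HomologicalComplex.quasiIso (ModSite.Mod O) (ComplexShape.up ℤ))
    (𝟭 _) (betaNat O s)

lemma jNat_fac (X₀ : CochainComplex (ModSite.Mod O) ℤ) :
    (jNat O s).app (DerivedCategory.Q.obj X₀) ≫
      (Groth.Agent.Lib.Helper5.FlatAmp.ltensorObjIso O _ (isKFlat_single_locAway O s) X₀).hom =
    (betaNat O s).app X₀ :=
  Functor.leftDerived_fac_app _ _ _ _ _ X₀

/-- `s` is invertible on `Q(Tot(X₀ ⊗ O_f[0]))` -/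
lemma isIso_smul_Phi_locAway (X₀ : CochainComplex (ModSite.Mod O) ℤ) :
    IsIso (s • 𝟙 ((Phi O X₀).obj (DerComp.locAway s (ModSite.unit O)))) := by
  haveI := isIso_smulEnd_locAway O s (ModSite.unit O)
  rw [← Phi_map_smulEnd]
  infer_instance

set_option maxHeartbeats 1000000 in
/-- `(s • 𝟙) ⊗^L O_f` is invertible -/
theorem isIso_F_map_smul (W : DerivedCategory (ModSite.Mod O)) :
    IsIso ((ModSite.LTensorCx ((CochainComplex.singleFunctor (ModSite.Mod O) 0).obj
      (DerComp.locAway s (ModSite.unit O)))).map (s • 𝟙 W)) := by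
  let P₀ : CochainComplex (ModSite.Mod O) ℤ := (CochainComplex.singleFunctor (ModSite.Mod O) 0).obj
    (DerComp.locAway s (ModSite.unit O))
  let X₀ := DerivedCategory.Q.objPreimage W
  let eX : DerivedCategory.Q.obj X₀ ≅ W := DerivedCategory.Q.objObjPreimageIso W
  let li := Groth.Agent.Lib.Helper5.FlatAmp.ltensorObjIso O P₀ (isKFlat_single_locAway O s) X₀
  let α := (ModSite.tensorCxQ P₀).totalLeftDerivedCounit DerivedCategory.Q
    (HomologicalComplex.quasiIso (ModSite.Mod O) (ComplexShape.up ℤ))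
  have hli : li.hom = α.app X₀ := rfl
  have hnat := α.naturality (s • 𝟙 X₀)
  have hT : (ModSite.tensorCxQ P₀).map (s • 𝟙 X₀) =
      s • 𝟙 (DerivedCategory.Q.obj (((ModSite.tensorCx O).obj X₀).obj P₀)) := by
    show DerivedCategory.Q.map (((ModSite.tensorCx O).map (s • 𝟙 X₀)).app P₀) = _
    rw [tensorCx_map_app_smul, Functor.map_smul, CategoryTheory.Functor.map_id, NatTrans.id_app,
      CategoryTheory.Functor.map_id]
  have h1 : (ModSite.LTensorCx P₀).map (DerivedCategory.Q.map (s • 𝟙 X₀)) ≫ li.hom =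
      li.hom ≫ (s • 𝟙 (DerivedCategory.Q.obj (((ModSite.tensorCx O).obj X₀).obj P₀))) := by
    rw [hli, ← hT]
    exact hnat
  have h2 : s • 𝟙 W = eX.inv ≫ DerivedCategory.Q.map (s • 𝟙 X₀) ≫ eX.hom := by
    rw [Functor.map_smul, CategoryTheory.Functor.map_id, Linear.smul_comp, Linear.comp_smul,
      Category.id_comp, Iso.inv_hom_id]
  have h3 : (ModSite.LTensorCx P₀).map (DerivedCategory.Q.map (s • 𝟙 X₀)) =
      li.hom ≫ (s • 𝟙 (DerivedCategory.Q.obj (((ModSite.tensorCx O).obj X₀).obj P₀))) ≫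
        li.inv := by
    rw [← Category.assoc, ← h1, Category.assoc, Iso.hom_inv_id, Category.comp_id]
  haveI : IsIso (s • 𝟙 (DerivedCategory.Q.obj (((ModSite.tensorCx O).obj X₀).obj P₀))) :=
    isIso_smul_Phi_locAway O s X₀
  show IsIso ((ModSite.LTensorCx P₀).map (s • 𝟙 W))
  rw [h2, Functor.map_comp, Functor.map_comp, h3]
  infer_instance

set_option maxHeartbeats 1000000 in
/-- `X ⊗^L O_f` is the cone of the telescope on `∐_ℕ X`, compatibly with `X ⟶ X ⊗^L O_f` -/
theorem exists_telescope' (X : DerivedCategory (ModSite.Mod O)) :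
    ∃ (Y Xc E : DerivedCategory (ModSite.Mod O)) (ι : ℕ → (Y ⟶ Xc))
      (_ : Nonempty (IsColimit (Cofan.mk Xc ι)))
      (a : Xc ⟶ Xc) (b : Xc ⟶ E) (c : E ⟶ Xc⟦(1 : ℤ)⟧),
      (∀ i, ι i ≫ a = ι i - (s • 𝟙 Y) ≫ ι (i + 1)) ∧
        Triangle.mk a b c ∈ distTriang (DerivedCategory (ModSite.Mod O)) ∧
        ∃ (eY : Y ≅ X)
          (eE : E ≅ (ModSite.LTensorCx ((CochainComplex.singleFunctor (ModSite.Mod O) 0).obj
            (DerComp.locAway s (ModSite.unit O)))).obj X),
          eY.inv ≫ ι 0 ≫ b ≫ eE.hom = (jNat O s).app X := by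
  let P₀ : CochainComplex (ModSite.Mod O) ℤ := (CochainComplex.singleFunctor (ModSite.Mod O) 0).obj
    (DerComp.locAway s (ModSite.unit O))
  let X₀ := DerivedCategory.Q.objPreimage X
  let eX : DerivedCategory.Q.obj X₀ ≅ X := DerivedCategory.Q.objObjPreimageIso X
  let li := Groth.Agent.Lib.Helper5.FlatAmp.ltensorObjIso O P₀ (isKFlat_single_locAway O s) X₀
  obtain ⟨z, hS⟩ := shortExact_tensor_away O s X₀
  refine ⟨(Phi O X₀).obj (ModSite.unit O), (Phi O X₀).obj (∐ fun _ : ℕ => ModSite.unit O),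
    (Phi O X₀).obj (DerComp.locAway s (ModSite.unit O)),
    fun j => (Phi O X₀).map (Sigma.ι (fun _ : ℕ => ModSite.unit O) j),
    nonempty_isColimit_Phi O X₀ (ModSite.unit O),
    (Phi O X₀).map (tel (DerComp.smulEnd s (ModSite.unit O))),
    (Phi O X₀).map (cokernel.π (tel (DerComp.smulEnd s (ModSite.unit O)))),
    DerivedCategory.triangleOfSESδ hS, ?_, ?_, ?_⟩
  · intro i
    show (Phi O X₀).map (Sigma.ι (fun _ : ℕ => ModSite.unit O) i) ≫
        (Phi O X₀).map (tel (DerComp.smulEnd s (ModSite.unit O))) =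
      (Phi O X₀).map (Sigma.ι (fun _ : ℕ => ModSite.unit O) i) -
        (s • 𝟙 ((Phi O X₀).obj (ModSite.unit O))) ≫
          (Phi O X₀).map (Sigma.ι (fun _ : ℕ => ModSite.unit O) (i + 1))
    rw [← Functor.map_comp, ι_tel, Functor.map_sub, Functor.map_comp, Phi_map_smulEnd]
  · exact DerivedCategory.triangleOfSES_distinguished hS
  · let eY : (Phi O X₀).obj (ModSite.unit O) ≅ X :=
      DerivedCategory.Q.mapIso (totUnitIso O X₀).symm ≪≫ eX
    let eE : (Phi O X₀).obj (DerComp.locAway s (ModSite.unit O)) ≅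
        (ModSite.LTensorCx P₀).obj X := li.symm ≪≫ (ModSite.LTensorCx P₀).mapIso eX
    refine ⟨eY, eE, ?_⟩
    have hβ : DerivedCategory.Q.map (totUnitIso O X₀).hom ≫
        (Phi O X₀).map (Sigma.ι (fun _ : ℕ => ModSite.unit O) 0) ≫
          (Phi O X₀).map (cokernel.π (tel (DerComp.smulEnd s (ModSite.unit O)))) =
        (betaNat O s).app X₀ := by
      rw [← Functor.map_comp]
      show DerivedCategory.Q.map (totUnitIso O X₀).hom ≫
          DerivedCategory.Q.map (((ModSite.tensorCx O).obj X₀).map (mAway O s)) =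
        DerivedCategory.Q.map ((totUnitIso O X₀).hom ≫
          ((ModSite.tensorCx O).obj X₀).map (mAway O s))
      rw [← Functor.map_comp]
    have hfac := jNat_fac O s X₀
    have hnat : eX.hom ≫ (jNat O s).app X =
        (jNat O s).app (DerivedCategory.Q.obj X₀) ≫ (ModSite.LTensorCx P₀).map eX.hom :=
      (jNat O s).naturality eX.hom
    have hj1 : (jNat O s).app (DerivedCategory.Q.obj X₀) = (betaNat O s).app X₀ ≫ li.inv := by
      rw [← hfac, Category.assoc, Iso.hom_inv_id, Category.comp_id]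
    exact compat_aux eX.inv eX.hom eX.inv_hom_id (DerivedCategory.Q.map (totUnitIso O X₀).hom)
      ((Phi O X₀).map (Sigma.ι (fun _ : ℕ => ModSite.unit O) 0))
      ((Phi O X₀).map (cokernel.π (tel (DerComp.smulEnd s (ModSite.unit O)))))
      li.inv ((ModSite.LTensorCx P₀).map eX.hom) ((betaNat O s).app X₀)
      ((jNat O s).app (DerivedCategory.Q.obj X₀)) ((jNat O s).app X) hβ hj1 hnat

/-- **`RHom(O_f, K)` is a derived limit `T(K, f)`** -/
theorem isT_rhom_away
    [DerComp.HasRHom ((CochainComplex.singleFunctor (ModSite.Mod O) 0).obj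
      (DerComp.locAway s (ModSite.unit O)))]
    (K : DerivedCategory (ModSite.Mod O)) [HasProduct fun _ : ℕ => K] :
    DerComp.IsT s K ((DerComp.RHom ((CochainComplex.singleFunctor (ModSite.Mod O) 0).obj
      (DerComp.locAway s (ModSite.unit O)))).obj K) :=
  isT_of_coreflection (fun X => s • 𝟙 X)
    (fun {X Y} f => by
      show (s • 𝟙 X) ≫ f = f ≫ (s • 𝟙 Y)
      rw [Linear.smul_comp, Linear.comp_smul, Category.id_comp, Category.comp_id])
    (fun X m => by
      show (s • 𝟙 X)⟦m⟧' = s • 𝟙 (X⟦m⟧)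
      rw [Functor.map_smul, CategoryTheory.Functor.map_id])
    (DerComp.RHomAdj ((CochainComplex.singleFunctor (ModSite.Mod O) 0).obj
      (DerComp.locAway s (ModSite.unit O))))
    (jNat O s) (exists_telescope' O s) (isIso_F_map_smul O s) K

end Groth.Agent.Lib.Helper6.DCAway
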